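import Cfsg.Agent.H36.M12.Fam

/-!
# The cocycle relation, characteristic three (helper36)
-/

set_option autoImplicit false
set_option maxRecDepth 100000

namespace Cfsg.Agent.H36.M12

open Module Cfsg Cfsg.Agent.H932.Mt Cfsg.Agent.CoThreeStd.MTwelve Cfsg.Agent.SporadicStructure.M11InvPerms

theorem ais (σ : Equiv.Perm (Fin 12)) (i : Fin 12) : σ (σ⁻¹ i) = i := σ.apply_symm_apply i

theorem ias (σ : Equiv.Perm (Fin 12)) (i : Fin 12) : σ⁻¹ (σ i) = i := σ.symm_apply_apply i

theorem pm_val {l : List ℕ} {i j : Fin 12} (h : act l (pn i) = pn j) : pm (wd l) i = j :=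
  pn_inj _ _ (by rw [pn_pm, h])

theorem pm_t : pm gt 7 = 7 ∧ pm gt 8 = 8 ∧ pm gt 9 = 9 ∧ pm gt 10 = 10 :=
  ⟨pm_val (by decide +kernel), pm_val (by decide +kernel), pm_val (by decide +kernel), pm_val (by decide +kernel)⟩
theorem pm_s : pm gs 7 = 7 ∧ pm gs 8 = 9 ∧ pm gs 9 = 8 ∧ pm gs 10 = 10 :=
  ⟨pm_val (by decide +kernel), pm_val (by decide +kernel), pm_val (by decide +kernel), pm_val (by decide +kernel)⟩
theorem pm_e2 : pm ge2 7 = 10 ∧ pm ge2 8 = 9 ∧ pm ge2 9 = 8 ∧ pm ge2 10 = 7 :=
  ⟨pm_val (by decide +kernel), pm_val (by decide +kernel), pm_val (by decide +kernel), pm_val (by decide +kernel)⟩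

variable {F V : Type*} [Field F] [AddCommGroup V] [Module F V] {R : Spor.M12 →* Module.End F V}

/-- the family of vectors attached to a ten-dimensional module -/
structure Fam (R : Spor.M12 →* Module.End F V) (W : Fin 12 → Fin 12 → V) : Prop where
  add : ∀ i j k, W i j + W j k = W i k
  ne : ∀ i j, i ≠ j → W i j ≠ 0
  act : ∀ g i j, R g (W i j) = W (pm g i) (pm g j)

theorem Fam.self {W : Fin 12 → Fin 12 → V} (h : Fam R W) (i : Fin 12) : W i i = 0 := by
  have := h.add i i i
  rwa [add_eq_left] at this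

theorem Fam.neg {W : Fin 12 → Fin 12 → V} (h : Fam R W) (i j : Fin 12) : W j i = -W i j := by
  rw [eq_neg_iff_add_eq_zero, h.add, h.self]

theorem exists_two (i j k l : Fin 12) (hij : i ≠ j) (hkl : k ≠ l) : ∃ g : Spor.M12, pm g i = k ∧ pm g j = l := by
  obtain ⟨g, h1, h2⟩ := exists_rep hij
  obtain ⟨g', h3, h4⟩ := exists_rep hkl
  refine ⟨g' * g⁻¹, ?_, ?_⟩
  · rw [map_mul, map_inv, Equiv.Perm.mul_apply, ← h1, ias, h3]
  · rw [map_mul, map_inv, Equiv.Perm.mul_apply, ← h2, ias, h4]

/-- assembling a family -/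
theorem fam_of {v : V} (h4 : Fix4 R v) (hv0 : v ≠ 0) (hneg : R ge2 v = -v)
    (hf : ∀ c : Fin 12, c ≠ 7 → c ≠ 10 → Wv R v 7 c + Wv R v c 10 = v) :
    Fam R (fun i j => if i = j then 0 else Wv R v i j) := by
  have anti : ∀ i j : Fin 12, i ≠ j → Wv R v j i = -Wv R v i j := by
    intro i j hij
    obtain ⟨g, h1, h2⟩ := exists_rep hij
    have a1 := Wv_act h4 g 7 10 (by decide)
    have a2 := Wv_act h4 g 10 7 (by decide)
    have a3 := Wv_act h4 ge2 7 10 (by decide)
    rw [h1, h2, Wv_base] at a1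
    rw [h1, h2] at a2
    rw [pm_e2.1, pm_e2.2.2.2, Wv_base, hneg] at a3
    rw [← a2, ← a3, map_neg, a1]
  have tri : ∀ i j k : Fin 12, i ≠ j → i ≠ k → j ≠ k → Wv R v i k + Wv R v k j = Wv R v i j := by
    intro i j k hij hik hjk
    obtain ⟨g, h1, h2⟩ := exists_rep hij
    have hc1 : pm g⁻¹ k ≠ 7 := by
      intro e
      apply hik
      rw [← h1, ← e, map_inv, ais]
    have hc2 : pm g⁻¹ k ≠ 10 := by
      intro e
      apply hjk
      rw [← h2, ← e, map_inv, ais]
    have hk : pm g (pm g⁻¹ k) = k := by rw [map_inv, ais]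
    have h3 := congrArg (R g) (hf _ hc1 hc2)
    have a1 := Wv_act h4 g 7 10 (by decide)
    rw [Wv_base, h1, h2] at a1
    rw [map_add, Wv_act h4 g _ _ (Ne.symm hc1), Wv_act h4 g _ _ hc2, hk, h1, h2, a1] at h3
    exact h3
  constructor
  · intro i j k
    by_cases hij : i = j
    · subst hij; simp
    · by_cases hjk : j = k
      · subst hjk; simp
      · by_cases hik : i = k
        · subst hik
          simp only [if_neg hij, if_neg (Ne.symm hij), if_true]
          rw [anti _ _ hij, add_neg_cancel]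
        · simp only [if_neg hij, if_neg hjk, if_neg hik]
          exact tri i k j hik hij (Ne.symm hjk)
  · intro i j hij
    simp only [if_neg hij]
    intro h0
    obtain ⟨g, h1, h2⟩ := exists_rep hij
    have a1 := Wv_act h4 g 7 10 (by decide)
    rw [Wv_base, h1, h2, h0] at a1
    exact hv0 (rzero R g a1)
  · intro g i j
    by_cases hij : i = j
    · subst hij; simp
    · have hg : pm g i ≠ pm g j := fun e => hij ((pm g).injective e)
      simp only [if_neg hij, if_neg hg]
      exact Wv_act h4 g i j hij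

theorem exists_others : ∀ c : Fin 12, c ≠ 7 → c ≠ 10 → ∃ d e : Fin 12, d ≠ 7 ∧ d ≠ 10 ∧ e ≠ 7 ∧ e ≠ 10 ∧ c ≠ d ∧ c ≠ e ∧
    d ≠ e := by decide +kernel

/-- **The family in odd characteristic.** -/
theorem Fixd.fam [FiniteDimensional F V] (h2 : (2 : F) ≠ 0) (hirr : Irr R) (hd : finrank F V = 10) {v : V} (hv : Fixd R v) :
    Fam R (fun i j => if i = j then 0 else Wv R v i j) := by
  have h4 := hv.fix4
  have hJ := dim_s R h2 hirr hd
  have htv : R gt v = v := by rw [← i2i2, rmul, hv.i2, hv.i2]
  have hvJ : v ∈ J (R gt) (R gs) (R ge2) 1 1 (-1) := by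
    rw [mem_J, one_smul, neg_one_smul]
    exact ⟨htv, hv.s, hv.e2⟩
  have anti : ∀ i j : Fin 12, i ≠ j → Wv R v j i = -Wv R v i j := by
    intro i j hij
    obtain ⟨g, h1, h2⟩ := exists_rep hij
    have a1 := Wv_act h4 g 7 10 (by decide)
    have a2 := Wv_act h4 g 10 7 (by decide)
    have a3 := Wv_act h4 ge2 7 10 (by decide)
    rw [h1, h2, Wv_base] at a1
    rw [h1, h2] at a2
    rw [pm_e2.1, pm_e2.2.2.2, Wv_base, hv.e2] at a3
    rw [← a2, ← a3, map_neg, a1]
  -- the vector `y`
  obtain ⟨k, hk⟩ : ∃ k : F, (Wv R v 7 8 + Wv R v 8 10) + (Wv R v 7 9 + Wv R v 9 10) = k • v := by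
    refine exists_scalar hJ hvJ hv.ne ?_
    rw [mem_J, one_smul, neg_one_smul]
    obtain ⟨t7, t8, t9, t10⟩ := pm_t
    obtain ⟨s7, s8, s9, s10⟩ := pm_s
    obtain ⟨e7, e8, e9, e10⟩ := pm_e2
    refine ⟨?_, ?_, ?_⟩
    · rw [map_add, map_add, map_add, Wv_act h4 _ 7 8 (by decide), Wv_act h4 _ 8 10 (by decide),
        Wv_act h4 _ 7 9 (by decide), Wv_act h4 _ 9 10 (by decide), t7, t8, t9, t10]
    · rw [map_add, map_add, map_add, Wv_act h4 _ 7 8 (by decide), Wv_act h4 _ 8 10 (by decide),
        Wv_act h4 _ 7 9 (by decide), Wv_act h4 _ 9 10 (by decide), s7, s8, s9, s10]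
      abel
    · rw [map_add, map_add, map_add, Wv_act h4 _ 7 8 (by decide), Wv_act h4 _ 8 10 (by decide),
        Wv_act h4 _ 7 9 (by decide), Wv_act h4 _ 9 10 (by decide), e7, e8, e9, e10,
        anti 9 10 (by decide), anti 7 9 (by decide), anti 8 10 (by decide), anti 7 8 (by decide)]
      abel
  have hsum : ∀ c d : Fin 12, c ≠ d → c ≠ 7 → c ≠ 10 → d ≠ 7 → d ≠ 10 →
      (Wv R v 7 c + Wv R v c 10) + (Wv R v 7 d + Wv R v d 10) = k • v := by
    intro c d hcd h1 h3 h5 h6
    obtain ⟨g, gv, g7, g10, g8, g9⟩ := exists_mv h4 hcd h1 h3 h5 h6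
    have h7 := congrArg (R g) hk
    rw [map_smul, gv, map_add, map_add, map_add, Wv_act h4 _ 7 8 (by decide), Wv_act h4 _ 8 10 (by decide),
        Wv_act h4 _ 7 9 (by decide), Wv_act h4 _ 9 10 (by decide), g7, g8, g9, g10] at h7
    exact h7
  obtain ⟨κ, hκ⟩ : ∃ κ : F, ∀ c : Fin 12, c ≠ 7 → c ≠ 10 → Wv R v 7 c + Wv R v c 10 = κ • v := by
    refine ⟨2⁻¹ * k, fun c h1 h3 => ?_⟩
    obtain ⟨d, e, d7, d10, e7, e10, hcd, hce, hde⟩ := exists_others c h1 h3
    have x1 := hsum c d hcd h1 h3 d7 d10
    have x2 := hsum c e hce h1 h3 e7 e10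
    have x3 := hsum d e hde d7 d10 e7 e10
    set A := Wv R v 7 c + Wv R v c 10
    set B := Wv R v 7 d + Wv R v d 10
    set C := Wv R v 7 e + Wv R v e 10
    have x4 : (2 : F) • A = k • v := by
      have : (2 : F) • A = (A + B) + (A + C) - (B + C) := by rw [two_smul]; abel
      rw [this, x1, x2, x3, add_sub_cancel_right]
    rw [mul_smul, ← x4, inv_smul_smul₀ h2]
  have tri : ∀ i j k : Fin 12, i ≠ j → i ≠ k → j ≠ k → Wv R v i k + Wv R v k j = κ • Wv R v i j := by
    intro i j k hij hik hjk
    obtain ⟨g, h1, h2⟩ := exists_rep hij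
    have hc1 : pm g⁻¹ k ≠ 7 := by
      intro e
      apply hik
      rw [← h1, ← e, map_inv, ais]
    have hc2 : pm g⁻¹ k ≠ 10 := by
      intro e
      apply hjk
      rw [← h2, ← e, map_inv, ais]
    have hk : pm g (pm g⁻¹ k) = k := by rw [map_inv, ais]
    have h3 := congrArg (R g) (hκ _ hc1 hc2)
    have a1 := Wv_act h4 g 7 10 (by decide)
    rw [Wv_base, h1, h2] at a1
    rw [map_add, Wv_act h4 g _ _ (Ne.symm hc1), Wv_act h4 g _ _ hc2, hk, h1, h2, map_smul, a1] at h3
    exact h3
  have κ1 : κ = 1 := by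
    by_contra hne
    have q : ∀ i j k : Fin 12, i ≠ j → i ≠ k → j ≠ k → Wv R v i j = -Wv R v i k := by
      intro i j k hij hik hjk
      have y1 := tri i j k hij hik hjk
      have y2 := tri i k j hik hij (Ne.symm hjk)
      have y3 := anti j k hjk
      rw [y3] at y1
      have y4 : (κ - 1) • (Wv R v i j + Wv R v i k) = 0 := by
        rw [sub_smul, one_smul, smul_add, ← y1, ← y2]
        abel
      rw [eq_neg_iff_add_eq_zero]
      exact (smul_eq_zero.1 y4).resolve_left (sub_ne_zero.2 hne)
    have z1 := q 7 10 8 (by decide) (by decide) (by decide)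
    have z2 := q 7 8 9 (by decide) (by decide) (by decide)
    have z3 := q 7 9 10 (by decide) (by decide) (by decide)
    rw [z2, z3, neg_neg, Wv_base] at z1
    have h6 : (2 : F) • v = 0 := by
      rw [two_smul]
      nth_rewrite 1 [z1]
      exact neg_add_cancel v
    exact hv.ne ((smul_eq_zero.1 h6).resolve_left h2)
  refine fam_of h4 hv.ne hv.e2 fun c h1 h3 => ?_
  rw [hκ c h1 h3, κ1, one_smul]

/-- a function on the twelve points which is multiplied by scalars is constant -/
theorem const_of {c : Fin 12 → F} (h : ∀ g : Spor.M12, ∃ l : F, ∀ i, c (pm g i) = l * c i) : ∀ i j, c i = c j := by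
  by_cases hc : c = 0
  · intro i j; rw [hc]; rfl
  have hs := Cfsg.Agent.Schreier.MTwelve.isSimpleGroup
  have hall : ∀ g : Spor.M12, ∀ i, c (pm g i) = c i := by
    let N : Subgroup Spor.M12 :=
      { carrier := {g | ∀ i, c (pm g i) = c i}
        one_mem' := fun i => by rw [map_one]; rfl
        mul_mem' := fun {a b} ha hb i => by
          rw [map_mul, Equiv.Perm.mul_apply, ha, hb]
        inv_mem' := fun {a} ha i => by
          rw [map_inv, ← ha ((pm a)⁻¹ i), ais] }
    have hN : N.Normal := ⟨fun a ha g i => by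
      obtain ⟨l, hl⟩ := h g
      rw [map_mul, map_mul, map_inv, Equiv.Perm.mul_apply, Equiv.Perm.mul_apply, hl, ha, ← hl,
        ais]⟩
    rcases hs.eq_bot_or_eq_top_of_normal N hN with h1 | h1
    · exfalso
      apply Cfsg.Agent.Schreier.MTwelve.not_isMulCommutative
      have h2 : ∀ a b : Spor.M12, a * b * (b * a)⁻¹ ∈ N := by
        intro a b i
        obtain ⟨l, hl⟩ := h a
        obtain ⟨m, hm⟩ := h b
        have e1 : ∀ i, c (pm (a * b) i) = l * m * c i := fun i => by
          rw [map_mul, Equiv.Perm.mul_apply, hl, hm, mul_assoc]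
        have e2 : ∀ i, c (pm (b * a) i) = l * m * c i := fun i => by
          rw [map_mul, Equiv.Perm.mul_apply, hm, hl]; ring
        rw [map_mul, map_inv, Equiv.Perm.mul_apply, e1, ← e2, ais]
      refine ⟨⟨fun a b => ?_⟩⟩
      have h3 := h2 a b
      rw [h1, Subgroup.mem_bot, mul_inv_eq_one] at h3
      exact h3
    · intro g
      have : g ∈ N := by rw [h1]; trivial
      exact this
  intro i j
  by_cases hij : i = j
  · rw [hij]
  · obtain ⟨g, h1, -⟩ := exists_two i j j i hij (Ne.symm hij)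
    rw [← h1, hall]

/-- the characteristic divides twelve -/
theorem Fam.twelve [FiniteDimensional F V] (hirr : Irr R) (hd : finrank F V = 10) {W : Fin 12 → Fin 12 → V} (h : Fam R W) :
    (12 : F) = 0 := by
  classical
  -- the vectors span
  have hspan : Submodule.span F (Set.range fun i => W 7 i) = ⊤ := by
    refine (hirr _ ?_).resolve_left ?_
    · intro g u hu
      induction hu using Submodule.span_induction with
      | mem x hx =>
        obtain ⟨i, rfl⟩ := hx
        rw [h.act, ← h.add (pm g 7) 7 (pm g i)]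
        refine Submodule.add_mem _ ?_ (Submodule.subset_span ⟨_, rfl⟩)
        rw [h.neg 7]
        exact Submodule.neg_mem _ (Submodule.subset_span ⟨_, rfl⟩)
      | zero => rw [map_zero]; exact Submodule.zero_mem _
      | add x y _ _ hx hy => rw [map_add]; exact Submodule.add_mem _ hx hy
      | smul a x _ hx => rw [map_smul]; exact Submodule.smul_mem _ _ hx
    · intro h0
      apply h.ne 7 10 (by decide)
      have : W 7 10 ∈ Submodule.span F (Set.range fun i => W 7 i) := Submodule.subset_span ⟨10, rfl⟩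
      rwa [h0, Submodule.mem_bot] at this
  -- the relations
  let Φ : (Fin 12 → F) →ₗ[F] V × F :=
    (Fintype.linearCombination F (fun i => W 7 i)).prod (Fintype.linearCombination F (fun _ => (1 : F)))
  have hΦ : ∀ c, Φ c = (∑ i, c i • W 7 i, ∑ i, c i) := by
    intro c
    have e2 : (Fintype.linearCombination F (fun _ => (1 : F))) c = ∑ i, c i := by
      rw [Fintype.linearCombination_apply]
      exact Finset.sum_congr rfl fun i _ => by rw [smul_eq_mul, mul_one]
    show (_, _) = _
    rw [Fintype.linearCombination_apply, e2]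
  have hsurj : LinearMap.range Φ = ⊤ := by
    rw [eq_top_iff]
    have e0 : ((0 : V), (1 : F)) ∈ LinearMap.range Φ := by
      refine ⟨Pi.single 7 1, ?_⟩
      rw [hΦ]
      congr 1
      · rw [Finset.sum_eq_single 7]
        · rw [Pi.single_eq_same, one_smul, h.self]
        · intro b _ hb; rw [Pi.single_eq_of_ne hb, zero_smul]
        · intro h1; exact absurd (Finset.mem_univ _) h1
      · rw [Finset.sum_pi_single']; simp
    have e1 : ∀ w : V, (w, (0 : F)) ∈ LinearMap.range Φ := by
      intro w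
      have hw : w ∈ Submodule.span F (Set.range fun i => W 7 i) := by rw [hspan]; trivial
      induction hw using Submodule.span_induction with
      | mem x hx =>
        obtain ⟨i, rfl⟩ := hx
        have e3 : (W 7 i, (1 : F)) ∈ LinearMap.range Φ := by
          refine ⟨Pi.single i 1, ?_⟩
          rw [hΦ]
          congr 1
          · rw [Finset.sum_eq_single i]
            · rw [Pi.single_eq_same, one_smul]
            · intro b _ hb; rw [Pi.single_eq_of_ne hb, zero_smul]
            · intro h1; exact absurd (Finset.mem_univ _) h1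
          · rw [Finset.sum_pi_single']; simp
        have e4 := Submodule.sub_mem _ e3 e0
        simpa using e4
      | zero => exact Submodule.zero_mem _
      | add x y _ _ hx hy => simpa using Submodule.add_mem _ hx hy
      | smul a x _ hx => simpa using Submodule.smul_mem _ a hx
    rintro ⟨w, a⟩ -
    have := Submodule.add_mem _ (e1 w) (Submodule.smul_mem _ a e0)
    simpa using this
  have hker : finrank F (LinearMap.ker Φ) = 1 := by
    have h1 := LinearMap.finrank_range_add_finrank_ker Φ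
    rw [hsurj, finrank_top, Module.finrank_prod, hd, Module.finrank_self, Module.finrank_fintype_fun_eq_card,
      Fintype.card_fin] at h1
    omega
  obtain ⟨⟨c, hc⟩, hc0⟩ := (finrank_pos_iff_exists_ne_zero (R := F) (M := LinearMap.ker Φ)).1 (by rw [hker]; norm_num)
  have hc0' : c ≠ 0 := fun e => hc0 (Subtype.ext e)
  have hcc := hc
  rw [LinearMap.mem_ker, hΦ, Prod.mk_eq_zero] at hcc
  have hconst := const_of (F := F) (c := c) (fun g => by
    have hmem : (fun i => c (pm g i)) ∈ LinearMap.ker Φ := by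
      rw [LinearMap.mem_ker, hΦ, Prod.mk_eq_zero]
      have e1 : ∑ i, c (pm g i) = 0 := by
        rw [← hcc.2]
        exact Equiv.sum_comp (pm g) c
      refine ⟨?_, e1⟩
      -- apply `g`
      apply rinj R g
      rw [map_zero, map_sum]
      have e2 : ∀ i, R g (c (pm g i) • W 7 i) = c (pm g i) • W (pm g 7) 7 + c (pm g i) • W 7 (pm g i) := by
        intro i
        rw [map_smul, h.act, ← h.add (pm g 7) 7 (pm g i), smul_add]
      rw [Finset.sum_congr rfl fun i _ => e2 i, Finset.sum_add_distrib, ← Finset.sum_smul, e1, zero_smul, zero_add]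
      rw [← hcc.1]
      exact Equiv.sum_comp (pm g) (fun i => c i • W 7 i)
    obtain ⟨l, hl⟩ := exists_scalar hker hc hc0' hmem
    exact ⟨l, fun i => by
      have := congrFun hl i
      simpa using this⟩)
  have h1 : c 0 ≠ 0 := by
    intro h0
    apply hc0'
    funext i
    rw [hconst i 0, h0]
    rfl
  have h3 := hcc.2
  rw [Finset.sum_congr rfl fun i _ => hconst i 0, Finset.sum_const, Finset.card_univ, Fintype.card_fin,
    nsmul_eq_mul] at h3
  have h5 := (mul_eq_zero.1 h3).resolve_right h1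
  exact_mod_cast h5

end Cfsg.Agent.H36.M12
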