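import Cfsg.Agent.H36.M12.Quat
import Cfsg.Agent.H932.MtCov
import Cfsg.Agent.H933.O10.DelTwelve

/-!
# `2.M₁₂` does not act on an orthogonal space of dimension ten (helper36)
-/

set_option autoImplicit false
set_option maxRecDepth 100000

namespace Cfsg.Agent.H36.M12

open Cfsg Cfsg.Geo Matrix Module Cfsg.Agent.H915.LD Cfsg.Agent.H933.O10 Cfsg.Agent.H932.Mt

universe u

variable {F : Type u} [Field F]

/-- the natural representation -/
def rp (P : Subgroup (GL (Fin 10) F)) : P →* Module.End F (Fin 10 → F) where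
  toFun g := Matrix.mulVecLin ((g : GL (Fin 10) F) : Matrix (Fin 10) (Fin 10) F)
  map_one' := Matrix.mulVecLin_one
  map_mul' a b := by rw [Subgroup.coe_mul, Units.val_mul, Matrix.mulVecLin_mul]; rfl

theorem rp_apply {P : Subgroup (GL (Fin 10) F)} (g : P) (v : Fin 10 → F) :
    rp P g v = ((g : GL (Fin 10) F) : Matrix (Fin 10) (Fin 10) F) *ᵥ v := rfl

variable {p : ℕ} {Q : (Fin 10 → F) → F} {H P : Subgroup (GL (Fin 10) F)}

theorem exists_form (h : Cx p Q H P) : ∃ f : LinearMap.BilinForm F (Fin 10 → F),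
    (∀ x y, f x y = QuadraticMap.polar Q x y) ∧ (∀ x, (∀ y, f x y = 0) → x = 0) ∧ (∀ x y, f x y = f y x) := by
  obtain ⟨R, hR, -⟩ := H883.Bridge.exists_quadraticForm h.hQ
  have h1 : ∀ x y, QuadraticMap.polarBilin R x y = QuadraticMap.polar Q x y := fun x y => by
    rw [← hR]; rfl
  refine ⟨QuadraticMap.polarBilin R, h1, ?_, fun x y => by rw [h1, h1, QuadraticMap.polar_comm]⟩
  intro x hx
  by_contra hx0
  obtain ⟨-, z, hz⟩ := h.hQ.nondegenerate x hx0
  apply hz
  rw [← h1, hx]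

/-- `j` to `-j` -/
def hj : Γ := gu * hi * gu

theorem hj_rel : hj * gj = H932.Mt.neg * gj * hj := gext (by decide +kernel)
theorem hi_t : hi * gt = gt * hi := gext (by decide +kernel)
theorem hj_t : hj * gt = gt * hj := gext (by decide +kernel)
theorem hk_t : hk * gt = gt * hk := gext (by decide +kernel)

/-- dimension of `+` -/
theorem plus_four (h2 : (2 : F) ≠ 0) (ρ : Γ →* Module.End F (Fin 10 → F)) (hneg : ∀ v, ρ H932.Mt.neg v = -v) :
    4 ∣ finrank F (es (ρ gt) 1) := by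
  have mul : ∀ (g h : Γ) (v : Fin 10 → F), ρ (g * h) v = ρ g (ρ h v) := fun g h v => by rw [map_mul]; rfl
  have rel : ∀ {g h g' h' : Γ}, g * h = g' * h' → ∀ v, ρ g (ρ h v) = ρ g' (ρ h' v) := by
    intro g h g' h' e v
    rw [← mul, ← mul, e]
  have inj : ∀ (g : Γ) (v : Fin 10 → F), ρ g v = 0 → v = 0 := by
    intro g v hv
    have : ρ g⁻¹ (ρ g v) = v := by rw [← mul, inv_mul_cancel, map_one]; rfl
    rw [← this, hv, map_zero]
  have cm : ∀ {g : Γ}, g * gt = gt * g → ∀ v ∈ es (ρ gt) 1, ρ g v ∈ es (ρ gt) 1 := by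
    intro g e v hv
    rw [mem_es_one] at hv ⊢
    rw [← rel e, hv]
  have sq : ∀ {g : Γ}, g * g = gt → ∀ v ∈ es (ρ gt) 1, ρ g (ρ g v) = v := by
    intro g e v hv
    rw [← mul, e]
    exact mem_es_one.1 hv
  have nt : ∀ {g k : Γ}, k * g = H932.Mt.neg * g * k → ∀ v, ρ g (ρ k v) = -(ρ k (ρ g v)) := by
    intro g k e v
    rw [← mul k, e, mul, mul, hneg, neg_neg]
  refine plus_dvd h2 (es (ρ gt) 1) (ρ gi) (ρ gj) (ρ hi) (ρ hj) (ρ hk) (cm it) (cm jt) (sq ii) (sq jj) ?_ (cm hi_t)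
    (cm hj_t) (cm hk_t) (inj _) (inj _) (inj _) (fun v _ => nt hi_rel v) (fun v _ => nt hj_rel v) ?_
  · intro v hv
    rw [← mul, ji, mul]
    have h1 := cm jt v hv
    have h3 : ρ gi⁻¹ (ρ gi (ρ gi (ρ gj v))) = ρ gi (ρ gj v) := by
      rw [← mul, inv_mul_cancel, map_one]; rfl
    rw [sq ii _ h1] at h3
    exact h3
  · intro v _
    have h1 := nt hk_rel v
    rw [gk, mul, mul] at h1
    exact h1

/-- dimension of `-` -/
theorem minus_four (h2 : (2 : F) ≠ 0) (ρ : Γ →* Module.End F (Fin 10 → F))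
    (f : LinearMap.BilinForm F (Fin 10 → F)) (hnd : ∀ x, (∀ y, f x y = 0) → x = 0) (hs : ∀ x y, f x y = f y x)
    (hinv : ∀ g x y, f (ρ g x) (ρ g y) = f x y) {β γ : F} (hβ : β * β + γ * γ = -1) :
    4 ∣ finrank F (es (ρ gt) (-1)) := by
  have mul : ∀ (g h : Γ) (v : Fin 10 → F), ρ (g * h) v = ρ g (ρ h v) := fun g h v => by rw [map_mul]; rfl
  have rel : ∀ {g h g' h' : Γ}, g * h = g' * h' → ∀ v, ρ g (ρ h v) = ρ g' (ρ h' v) := by
    intro g h g' h' e v
    rw [← mul, ← mul, e]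
  have cm : ∀ {g : Γ}, g * gt = gt * g → ∀ v ∈ es (ρ gt) (-1), ρ g v ∈ es (ρ gt) (-1) := by
    intro g e v hv
    rw [mem_es_neg_one] at hv ⊢
    rw [← rel e, hv, map_neg]
  have sq : ∀ {g : Γ}, g * g = gt → ∀ v ∈ es (ρ gt) (-1), ρ g (ρ g v) = -v := by
    intro g e v hv
    rw [← mul, e]
    exact mem_es_neg_one.1 hv
  have t2 : ∀ v, ρ gt (ρ gt v) = v := fun v => by rw [← mul, tt, map_one]; rfl
  refine quat_dvd h2 (f.restrict (es (ρ gt) (-1))) (fun x y => hs x y) ?_ ((ρ gi).restrict (cm it))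
    ((ρ gj).restrict (cm jt)) ?_ ?_ ?_ (fun x y => hinv gi x y) (fun x y => hinv gj x y) hβ
  · intro x hx
    apply Subtype.ext
    apply hnd
    intro y
    have h3 : y - ρ gt y ∈ es (ρ gt) (-1) := by
      rw [mem_es_neg_one, map_sub, t2]; abel
    have h4 : f x (y - ρ gt y) = 0 := hx ⟨_, h3⟩
    have h5 : f x (ρ gt y) = -f x y := by
      have h6 := hinv gt x y
      rw [mem_es_neg_one.1 x.2, map_neg, LinearMap.neg_apply] at h6
      rw [← h6, neg_neg]
    rw [map_sub, h5, sub_neg_eq_add, ← two_mul] at h4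
    exact (mul_eq_zero.1 h4).resolve_left h2
  · intro x
    exact Subtype.ext (sq ii x x.2)
  · intro x
    exact Subtype.ext (sq jj x x.2)
  · intro x
    apply Subtype.ext
    show ρ gj (ρ gi x) = -(ρ gi (ρ gj x))
    rw [← mul, ji, mul]
    have h1 := cm jt x x.2
    have h3 : ρ gi⁻¹ (ρ gi (ρ gi (ρ gj x))) = ρ gi (ρ gj x) := by
      rw [← mul, inv_mul_cancel, map_one]; rfl
    rw [sq ii _ h1, map_neg] at h3
    rw [← h3, neg_neg]

/-- **No double cover.** -/
theorem no_double [Finite F] (h : Cx p Q H P) (e : Soc P ≃* Spor.M12) (h2 : (2 : F) ≠ 0) {z : P}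
    (hz : ((z : GL (Fin 10) F) : Matrix (Fin 10) (Fin 10) F) = -1) : False := by
  obtain ⟨φ, hφ, hφe⟩ := exists_cover h.core e
  have hch := h.char
  have hprime : Fact p.Prime := ⟨h.prime⟩
  have h11 : (1 : Matrix (Fin 10) (Fin 10) F) ≠ -1 := by
    intro h0
    have h3 := congrFun (congrFun h0 0) 0
    rw [Matrix.neg_apply, Matrix.one_apply_eq] at h3
    apply h2
    linear_combination h3
  have hneg1 : ((φ H932.Mt.neg : GL (Fin 10) F) : Matrix (Fin 10) (Fin 10) F) = -1 := by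
    have h3 : toSoc P (φ H932.Mt.neg) = 1 := by
      apply e.injective
      rw [hφe, sig_neg, map_one]
    have h4 : φ H932.Mt.neg ∈ (toSoc P).ker := h3
    rw [ker_toSoc, Subgroup.mem_subgroupOf] at h4
    obtain ⟨c, hc⟩ := (mem_scalars_iff _).1 h4
    have h5 := h.scalar_sq (φ H932.Mt.neg).2 hc
    have h6 : ((c : F) - 1) * ((c : F) + 1) = 0 := by linear_combination h5
    rcases mul_eq_zero.1 h6 with h7 | h7
    · exfalso
      have h8 : (c : F) = 1 := sub_eq_zero.1 h7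
      have h9 : φ H932.Mt.neg = 1 := by
        apply Subtype.ext
        apply Units.ext
        rw [hc, h8, one_smul]
        rfl
      obtain ⟨x, hx⟩ := hφ z
      have h10 : toSoc P z = 1 := by
        have : z ∈ (toSoc P).ker := by
          rw [ker_toSoc, Subgroup.mem_subgroupOf, mem_scalars_iff]
          exact ⟨-1, by rw [hz]; simp⟩
        exact this
      have h12 := hφe x
      rw [hx, h10, map_one] at h12
      have h13 : z = 1 := by
        rcases eq_of_sig h12.symm with h14 | h14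
        · rw [← hx, h14, map_one]
        · rw [← hx, h14, h9]
      rw [h13] at hz
      exact h11 hz
    · rw [hc, eq_neg_of_add_eq_zero_left h7, neg_one_smul]
  set ρ : Γ →* Module.End F (Fin 10 → F) := (rp P).comp φ with hρ
  have ρ_apply : ∀ g v, ρ g v = ((φ g : GL (Fin 10) F) : Matrix (Fin 10) (Fin 10) F) *ᵥ v := fun _ _ => rfl
  have hneg : ∀ v, ρ H932.Mt.neg v = -v := fun v => by rw [ρ_apply, hneg1, Matrix.neg_mulVec, Matrix.one_mulVec]
  obtain ⟨f, hf, hnd, hs⟩ := exists_form h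
  have hinv : ∀ g x y, f (ρ g x) (ρ g y) = f x y := by
    intro g x y
    rw [hf, hf, ρ_apply, ρ_apply]
    exact polar_mulVec (h.le_omega (φ g).2) x y
  have : NeZero p := ⟨h.prime.ne_zero⟩
  obtain ⟨a, b, hab⟩ := CharP.sq_add_sq F p (-1)
  have h3 := plus_four h2 ρ hneg
  have h4 := minus_four h2 ρ f hnd hs hinv (β := a) (γ := b) (by rw [← pow_two, ← pow_two, hab]; simp)
  have t2 : ∀ v, ρ gt (ρ gt v) = v := fun v => by
    have : ρ (gt * gt) v = ρ gt (ρ gt v) := by rw [map_mul]; rfl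
    rw [← this, tt, map_one]; rfl
  have h5 := split_one h2 (⊤ : Submodule F (Fin 10 → F)) (ρ gt) (fun _ _ => trivial) t2
  rw [top_inf_eq, top_inf_eq, finrank_top, Module.finrank_fintype_fun_eq_card, Fintype.card_fin] at h5
  omega

end Cfsg.Agent.H36.M12
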