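import Cfsg.Agent.H36.M12.Odd
import Cfsg.Agent.H994.TwoGen.M12

/-!
# The vectors `W i j` (helper36)

From a vector `v` fixed by the stabiliser of the points `9, 16` of the dodecad: `W i j` is the image of `v` under an element
mapping `9, 16` to the points number `i, j`.
-/

set_option autoImplicit false
set_option maxRecDepth 100000

namespace Cfsg.Agent.H36.M12

open Module Cfsg Cfsg.Agent.CoThreeStd.MTwelve Cfsg.Agent.SporadicStructure.M11InvPerms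

/-! ### the points of the dodecad -/

/-- numbers of the points of the dodecad -/
def dl : List ℕ := [0, 1, 2, 3, 4, 6, 8, 9, 12, 13, 16, 18]

/-- number of the point `i` -/
def pn (i : Fin 12) : ℕ := dl.getD i 0

/-- the point `i` -/
def pt (i : Fin 12) : GolayPt := dec (pn i)

theorem pn_lt : ∀ i, pn i < 24 := by decide +kernel
theorem pn_inj : ∀ i j, pn i = pn j → i = j := by decide +kernel
theorem enc_pt : ∀ i, enc (pt i) = pn i := by decide +kernel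
theorem pt_mem : ∀ i, pt i ∈ dd := by decide +kernel
theorem pt_surj : ∀ x ∈ dd, ∃ i, pt i = x := by decide +kernel

theorem pt_inj : Function.Injective pt := by
  intro i j h
  apply pn_inj
  rw [← enc_pt, ← enc_pt, h]

/-- the numbering of the dodecad -/
noncomputable def e12 : Fin 12 ≃ {x // x ∈ dd} :=
  Equiv.ofBijective (fun i => ⟨pt i, pt_mem i⟩)
    ⟨fun _ _ h => pt_inj (congrArg Subtype.val h), fun ⟨x, hx⟩ => by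
      obtain ⟨i, hi⟩ := pt_surj x hx
      exact ⟨i, Subtype.ext hi⟩⟩

theorem mem_iff (g : Spor.M12) (x : GolayPt) : g.1 x ∈ dd ↔ x ∈ dd :=
  ⟨fun h => by
    by_contra hx
    exact CoThreeStd.OutAut.ndd_of_mem g hx h, fun h => CoThreeStd.OutAut.dd_of_mem g h⟩

/-- the action on the numbers of the points -/
noncomputable def pm : Spor.M12 →* Equiv.Perm (Fin 12) where
  toFun g := e12.trans ((g.1.subtypePerm (mem_iff g)).trans e12.symm)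
  map_one' := by
    ext i
    simp [Equiv.trans_apply]
  map_mul' g h := by
    apply Equiv.ext
    intro i
    simp only [Equiv.trans_apply, Equiv.Perm.mul_apply, Equiv.apply_symm_apply]
    rfl

theorem pt_pm (g : Spor.M12) (i : Fin 12) : pt (pm g i) = g.1 (pt i) := by
  have h1 : ∀ j, ((e12 j : {x // x ∈ dd}) : GolayPt) = pt j := fun _ => rfl
  rw [← h1, ← h1]
  show ((e12 (e12.symm _) : {x // x ∈ dd}) : GolayPt) = _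
  rw [Equiv.apply_symm_apply]
  rfl

theorem pn_pm (l : List ℕ) (i : Fin 12) : pn (pm (wd l) i) = act l (pn i) := by
  rw [← enc_pt, pt_pm, pt, (act_spec l (pn i) (pn_lt i)).1]

/-! ### words -/

/-- the word of `X` -/
def wX : List ℕ := [2,1,5,4,3,5,0,5,1]
/-- the word of `Y` -/
def wY : List ℕ := [4,5,4,1,5,4]

theorem wX_eq : ((wd wX).1 : Equiv.Perm GolayPt) = Cfsg.Agent.H994.TwoGen.M12.X := by
  ext1 z
  have h1 := (act_spec wX (enc z) (enc_lt z)).1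
  rw [dec_enc] at h1
  have h2 : ∀ z, act wX (enc z) = enc (Cfsg.Agent.H994.TwoGen.M12.X z) := by decide +kernel
  rw [← dec_enc ((wd wX).1 z), h1, h2, dec_enc]

theorem wY_eq : ((wd wY).1 : Equiv.Perm GolayPt) = Cfsg.Agent.H994.TwoGen.M12.Y := by
  ext1 z
  have h1 := (act_spec wY (enc z) (enc_lt z)).1
  rw [dec_enc] at h1
  have h2 : ∀ z, act wY (enc z) = enc (Cfsg.Agent.H994.TwoGen.M12.Y z) := by decide +kernel
  rw [← dec_enc ((wd wY).1 z), h1, h2, dec_enc]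

theorem closure_XY : Subgroup.closure ({wd wX, wd wY} : Set Spor.M12) = ⊤ := by
  rw [eq_top_iff]
  intro g _
  have h1 : (Subgroup.closure ({wd wX, wd wY} : Set Spor.M12)).map Spor.M12.subtype =
      Subgroup.closure {Cfsg.Agent.H994.TwoGen.M12.X, Cfsg.Agent.H994.TwoGen.M12.Y} := by
    rw [MonoidHom.map_closure, Set.image_pair, Subgroup.coe_subtype, wX_eq, wY_eq]
  rw [Cfsg.Agent.H994.TwoGen.M12.closure_eq] at h1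
  have h2 : (g : Equiv.Perm GolayPt) ∈ (Subgroup.closure ({wd wX, wd wY} : Set Spor.M12)).map Spor.M12.subtype := by
    rw [h1]; exact g.2
  obtain ⟨a, ha, hag⟩ := h2
  rwa [← Subtype.ext hag]

/-- words of the generators of the stabiliser -/
def sw : ℕ → List ℕ
  | 0 => wi2
  | 1 => wi3
  | 2 => ws
  | _ => wr

/-- words mapping `9, 16` to the given points -/
def tR : List (List (List ℕ)) :=
  [[[], [3,5,1,5], [1,2,1], [0,5,4,5], [1,2,5], [], [1,5,0], [], [4,3], [4,5,0], [], [], [4,2,5], [0,5,1,2], [],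
  [], [3,1], [], [3,5]], [[2,5,2,3,0], [], [5,4,5], [1,2,1,0], [4,3,0], [], [3,0,5], [], [0,5,3,0], [5,1,2], [],
  [], [3,1,0], [5,3,2], [], [], [2,1,5,2], [], [1,0,5,0]], [[2,1], [5,1,0,5], [], [2,5,1,5], [3,5,1], [], [3], [],
  [3,0,5,3], [4,3,1], [], [], [3,1,5], [2,5], [], [], [5,0], [], [4,1,2,5]], [[1,5,4,5], [2,1,0], [0,5,0,5,1], [],
  [3,5,3], [], [1,2,1,5,2], [], [1,5,1,2], [2,0,5], [], [], [0,5,0], [3,5,2,1], [], [], [3,1,0,5], [], [3,0]],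
  [[1,2,5,2], [2,3,0], [1,0,5,1], [1,5,3], [], [], [1,5,3,1,5], [], [0,5,1,5], [3,5,4,5], [], [], [1,5,4,3,5],
  [2,0,5,0], [], [], [0,5], [], [1,0]], [], [[1,5,2,0], [2,3,5], [3,2], [1,2,1,5], [3,2,1,5], [], [], [], [1,2],
  [2,3,1], [], [], [1,2,5,1], [4,5], [], [], [0,5,0,5], [], [4,5,1,5]], [], [[2,3], [1,5,2,3], [1,0,5,3], [1,5,1],
  [5,1,5], [], [1], [], [], [2,5,0], [], [], [5], [2,3,1,5], [], [], [3,1,5,0], [], [3,4,2,5]], [[0,5,3], [5,1],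
  [1,2,3], [3,2,5], [2,3,4,5], [], [3,5,0], [], [3,2,1], [], [], [], [0,5,3,1,5], [1,5,1,5], [], [], [], [],
  [1,5]], [], [], [[2,1,0,5], [3,1,2,0], [3,1,5,2], [4,5,3], [2,5,2,1], [], [2,0,5,1], [], [5,2], [1,2,5,4,5], [],
  [], [], [2,0], [], [], [1,5,2,3,0], [], [2,5,3]], [[0,5,1], [5,3], [2,5,2], [5,2,1], [3,2,1,0], [], [1,0,5], [],
  [5,4,3,1], [1,0,5,1,5], [], [], [0], [], [], [], [5,3,1,5], [], [3,0,5,0]], [], [], [[3,1,2], [2,1,5], [5,2,0],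
  [3,4,5], [0,5,2], [], [2,0,5,3], [], [1,2,3,1], [2], [], [], [1,5,4,3,0], [3,1,2,1,5], [], [], [], [], [2,5,1]],
  [], [[3,5,2], [4,1,5,3], [1,2,1,0,5], [3,2,0], [1,2,0], [], [5,2,3,0], [], [2,5,4,5], [1,5,2], [], [], [5,0,5],
  [2,3,1,0], [], [], [2,5,1,2], [], []]]

/-- the Schreier words of `X` -/
def tSX : List (List (List ℕ)) :=
  [[[], [1,2,0], [2,3,0,3,0,3,0,1,3], [3,0,2], [3,2,0,3,0,3,0], [], [1,2,3,0,3,0,3,0,3], [], [3,0,3,0,2,3,2,0],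
  [3,0,3,0,1,3,0,3,3], [], [], [3,0,1,3,0,3,0,3], [3,3,2,0,3,0], [], [], [2,0,3,2,0], [], [0,3,2,3,0,3,0,3,0]],
  [[1,3,0,3], [], [3,1,0,3,0,3,0,3], [0,1,3,0,3,0,3,0,3,3], [3,0,3,0,2,3,2], [], [3,3], [], [3,1,0,3,0,3,3,0,3,0],
  [3,0,3,0,3,3,0,3,2,3], [], [], [3,0,3,0,2,3,2,0], [0,1,3,3], [], [], [2,1,3], [], [2,0,3,0,3,0,3]],
  [[1,3,2,0,3,0,3,0,2,3], [0,3,3,0,3,1,0,3], [], [3,3,0,3,2,3,0,3], [3,3,0,2,3,0,3,0,3,3], [], [3,0,3,0,3,3,0,3,3],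
  [], [3,3,0], [1,0,3,0,3,0,3,0,3], [], [], [1,2,0], [0,3,3,0,3,0,3,3,2,0,3], [], [], [0,3,0,2], [],
  [0,3,0,2,3,0,3,0]], [[0,3,0,2,3,2,0], [3,2,1], [0,1,3,0,3,1], [], [3,0,3,1,0], [], [0,3,3,0,3,0,2,3,0], [],
  [3,0,1,3,0,3], [0,3,0,2,3,0,3,0], [], [], [2,3,3], [1,3,2,0,3,0,3,0,2,3], [], [], [0,3,3,0,3,1,0,3], [],
  [1,3,0,3,0,3,0]], [[3,3,0,2,3,0,3,0,3,0], [0,3,3,0,3,2,0,3], [3,0,3,3,0,3,2], [3,3,0,3,1,0,3,0,3,3], [], [],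
  [0,3,0,3,3,2,0], [], [0,3,1,0,3,0,3,0,2,3], [3,1,0,3,0,3,0,3], [], [], [2,0,3,0,3,0,2,3,3], [0,3,0,3,0,3,0], [],
  [], [0,3,1,0,3,0,3,0,2], [], [3,0,3,0,3,3,0,3,2,3]], [], [[2,0,3,2,0,3,0], [3,3,0,3,0,3,3,2,0,3],
  [3,0,3,0,3,1,0], [3,3,0,3,0,2,3,3], [1,0,3,3,0], [], [], [], [3,0,3,0,3,3,0,3,2,3], [0,3,3,2,0,3,3], [], [],
  [0,3,3,0,3,0,3,0,2,3], [3,1,0,3,0,3,0,3], [], [], [0,1,3,0,3,1], [], [3,3,0,3,0,3]], [], [[2,0,3,0,3,0,2,3,0],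
  [3,3,0,3,1,0,3,0,3,3], [0,3,3,0,3,0,3,0,3,1], [0,3,3,2,0,3,0,3,0,2], [1,2,0], [], [3,3,0,2,3,0,3,0,3,3], [], [],
  [1,3,0,3], [], [], [1,3,0,3,0,3,0,2,3], [0,3,2,3,0,3,0,3,0], [], [], [2,1], [], [3,0,1,3,0,3,0,3]],
  [[3,3,0,3,1,0,3,0,3,3], [2,3,0,3,0,3,0,1,3], [3,1,0,3,0,3,0,2,3], [1,3,0,3,3,0,3,3], [3,3,2,0,3,0,3,0,3], [],
  [3,0,1,3,0,3,0,3,0], [], [1,3,2,0,3,0,3,0,2,3], [], [], [], [3,3,2,0,3,3], [3,0,3,0,3,1,0], [], [], [1,0,3,3,0],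
  [], [3,0,3,3,2,0,3]], [], [], [[0,3,3,0,3,0,2,3], [0,1,3,0,3,0,3,3], [2,0], [3,3,0,3,0,3,0], [3,2], [],
  [1,3,0,3,0,2,3], [], [0,3,0,3,1,0,3,0], [0,3,0,3,0,2,3,2], [], [], [], [0,3,3,0,3,1,0,3], [], [],
  [3,0,3,0,3,2,3,0], [], [3,3,0,3,1,0,3,0,3,3]], [[2,3,2], [0,3,0], [0,3,0,3,0,3,2,0,3,3], [3,0,3,0,3,3,0,3,2,3],
  [1,0,3,0,3,0,2,3,3], [], [0,3,3,0,3,1,0,3], [], [1,0,3,0,3,0,3,0,3], [0,3,2,3,0,3,0], [], [], [0,3,0,2], [], [],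
  [], [1,2,0], [], [0,3,0,3,2,0,3,0]], [], [], [[0,3,3,0], [1,0,3,3,0], [3,3,0,3,2,0,3], [0,3,3,2,0,3,0,3,0,3],
  [3,3,0,3,0,3], [], [3,0,3,0,3,3,0,3,3], [], [3,0,3,0,2,3,2], [3,0,3,0,3,3,0,3,0], [], [], [2,0,3,0,3,0,3,3,0],
  [1,0,3,0,3], [], [], [], [], [3,2]], [], [[3,0,3,0,3,3,0,3,0], [3,0,3,3], [0,3,3,0,3,2,0], [3,3,0,3,0,3,0,3,1,0],
  [2,0,3,0,3,3,0], [], [0,3,3,0,3,2,0,3], [], [3,0,3,0,3,3,0,3,0], [3,2,0,3,0,3,0,3,0], [], [],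
  [0,3,0,3,0,3,2,0,3,3], [3,1], [], [], [0,2,3,3,0], [], []]]

/-- the Schreier words of `Y` -/
def tSY : List (List (List ℕ)) :=
  [[[], [3,2,0,3,0,3,0,3,3,2], [1,3,0,3,0,3,3,0,3], [3,3,0,3,0,1,3,0], [3,0,3,0,3,2,0,3,3], [], [0,3,3,0,3,0], [],
  [3,1,0,3,0,3,3,0,3,0], [3,0,3,0,3,2,0,3,0], [], [], [3,0,3,3,0,3,0,3,3], [3,2,0,3,0,3,3], [], [],
  [3,0,3,3,0,3,1,0,3], [], [0,2,3,3]], [[3,3,0,3,0,2,3,3,0], [], [0,3,0,3,3,0,3,1,0], [1,3,0,3,0,3,1],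
  [3,3,0,3,1,0,3,3], [], [3,0,3,2,3,0,3], [], [1,0,3,0,3,0,3,3,0,3], [3,0,3,1,0,3], [], [], [3,0,3,3,0,3,1,0,3,0],
  [0,3,0,1,3,0], [], [], [0,3,3,0,3,2,3,0], [], [0,3,0,3,3,2,0,3]], [[0,3,3,0,3,3,0,3,3], [3,0,3,2,3,0,3,0,3,0],
  [], [3,0,3,0,3,0,2,3,2,0], [0,3,2], [], [3,2,0,3,0,3,0,3,0], [], [3,3,0,3,1,0,3,0,3,0], [3,3,0], [], [],
  [3,3,0,3,1,0,3], [3,3,0,2,3,0,3], [], [], [3,3,0,3,3,0,3], [], [3,0,3,1,0,3,0]], [[1,2,3,0,3,0,3], [3,2,3],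
  [0,3,0,3,0,3,3,2,0], [], [3,3,0,3,2,0,3,0,3,3], [], [3,3,2,0,3,0,3,3,0], [], [1,3,0,3,0,2], [0,3,0,3,3,0,3,3,0],
  [], [], [3,2,0,3,0,3,0,2,3,3], [3,3,0,3,3,0,3,2,0,3], [], [], [3,3,0,3,0,2,3,0], [], [3,0,3,3,2]],
  [[3,0,3,0,3,0,2,3], [0,3,2,0,3,0,3,3], [3,0,3,0,1,3], [3,0,3,2,0], [], [], [1,0,3,0,3,0,3,3], [],
  [0,3,0,3,0,2,3,0,3], [0,3,0,3,3,0,3,0,3,3,2], [], [], [2,0,3,3], [3,0,3,3,0,3,3,0,3], [], [],
  [0,3,0,3,3,0,3,3,0,3], [], [3,0,3,0,3]], [], [[3,2,0,3,3], [2,3,2], [0,3,1,0,3,0,3,0,2], [0,3,0,2,3,0,3],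
  [0,3,0,3,3,0,3,0,2], [], [], [], [0,3,0,2,3,2], [3,0,3,3,0,3,0,2,3], [], [], [3,0,3,0,3,2,0,3,3],
  [2,0,3,0,3,3,0,3], [], [], [1,3,2,0,3,0,3,0,3], [], [1,2,3,0,3,0,3]], [], [[0,3,0,3,2,0,3,0,3],
  [2,0,3,0,3,0,3,0], [3,0,3,3,0,3,1,0,3,0], [0,3,2,0,3], [3,0,3,0,3,0,3,1,0], [], [3,3,0,3,2,3,0], [], [],
  [1,3,0,3,0,3,0,3,0], [], [], [1,2,3,0,3,0,3], [0,3,3,0,3,3,0,3], [], [], [3,3,0,3,1,0,3,0], [],
  [0,3,0,3,0,3,1,0,3,3]], [[1,3,0,3,3,0,3,3], [3,0,3,3,0,3,0,2], [3,3,0,3,0,2,3,3], [3,0,3,3,0,3,2,0],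
  [0,3,0,3,0,3,3,0,3,2], [], [0,3,3,0,3,1], [], [3,0,1,3,0,3,0,3,0,3], [], [], [], [3,1,2,0],
  [3,0,3,0,3,3,0,3,0,3], [], [], [3,3,0,3,1,0,3,0,3,3], [], [1,3,0,3,0,3,0,2,3,3]], [], [], [[0,3,0],
  [3,0,3,3,0,3,1,0,3,0], [0,3,0,3,3,0,3,1,0], [0,1,2], [0,3,0,3,3,0,3,0,3,3], [], [0,2], [], [0,3,0,3,0,3,0,2],
  [0,3,3,0,3,0,3,0,1,3], [], [], [], [3,2,0,3,0], [], [], [1,0,3,0,3,3], [], [0,3,3,2,0]], [[0,3,3,0,3,2,3,0,3,0],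
  [1,3,2,0,3,3], [0,3,2,0,3,0,3,0,2], [3,3,0,3,3,0,3,1], [0,3,0,3,1,0], [], [0,3,1], [], [3,0,3,0,3,0,3,3],
  [0,3,0,1,3], [], [], [3,1,0,3,3], [], [], [], [1,0,3,0,3], [], [3,0,3,0,3,1,0]], [], [], [[0,3,0,3,0,2,3,3],
  [3,0,1,3], [0,3,0,3,1,0,3,3,0], [3,0,2], [3,3,0,3,0,2], [], [3,0,3,2,0,3], [], [3,0,3,3,0,3,0,3,3,2],
  [0,3,0,3,0,2], [], [], [3,0,1,3,3], [3,3,2,0,3,0], [], [], [], [], [2,0,3,0,3,3,0,3,0]], [], [[2,3,0],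
  [3,0,2,3,0,3,0,3,3], [1,3,0,3,0,3,0,1,3], [2,0,3,2,0,3,0], [3,0,3,0,3,0,3,1,0,3], [], [0,3,3,0,3,2,3,0,3], [],
  [3,0,2,3,0,3,0,3,0,1], [3,2,0,3,0,3,0,2,3,3], [], [], [2,3,0,3,0,3,0,3,3], [3,3,0,2,3,0,3,0,3,3], [], [],
  [3,1,0,3,0,3,3], [], []]]

/-- words in the generators of the stabiliser mapping `12, 13` to the given points -/
def tM : List (List (List ℕ)) :=
  [[[], [3,3,0,3], [3,1,0,3,0,3,0,3], [1,2,3,0,3,0,3,0,3], [3,0,2,3], [], [3,2,0,3,0,3,0,3], [], [2,0,3], [], [],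
  [], [0,3,2,0,3,0,3], [0,3,0,3,2,0,3], [], [], [], [], [3,2,3,0,3,0,3,0,3]], [[3,3,0,2,3], [], [3,0,3,2,0,3,0,3],
  [1,3,2,0,3,0,3,0,3], [0,3], [], [3,0,3,0,3,2,0,3], [], [3,2,0,3], [], [], [], [0,1,3,0,3,0,3], [0,3,3,0,3,3,0,3],
  [], [], [], [], [3,3,2,0,3,0,3,0,3]], [[2,3,0,3,0,3,0,3,3], [3,0,3,0,3,3,0,3], [], [0,3,0,3], [3,0,3,3,0,3,0,3],
  [], [3], [], [3,0,3,0,3,0,2,3], [], [], [], [1,3,0,3,0,3], [3,3,0,3,3,0,3], [], [], [], [], [0,3,3,2,0,3]],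
  [[3,3,0,3,3,0,3,0,3], [0,3,1,0,3,0,3,0,3], [0,3,0,2,3], [], [3,3,0,3,0,3,3,0,3], [], [0,3,3,0,3], [],
  [3,3,0,3,0,3,0,2,3], [], [], [], [3,0,3,0,3], [2,3,0,3,0,3], [], [], [], [], [3,3]], [[3,0,3], [0,2,3],
  [3,0,1,3,0,3,0,3], [3,3,0,3,2,0,3,0,3], [], [], [2,3,0,3,0,3,0,3], [], [3,3,2,0,3], [], [], [], [1,0,3,0,3,0,3],
  [2,0,3,0,3,0,3], [], [], [], [], [1,3,0,3,0,3,0,3]], [], [[3,0,3,3,0,3,2,0,3], [3,0,3,0,2,3,0,3], [2,3],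
  [2,0,3,0,3], [3,0,3,3,2,0,3,0,3], [], [], [], [3,0,3,1,0,3,0,3], [], [], [], [1,3,2,0,3,0,3], [3,3,0,2,3,0,3],
  [], [], [], [], [0,3,2,0,3]], [], [[0,3,3], [2,3,0,3], [3,0,3,0,3,0,3], [3,3,0,3,0,3,0,3], [3,2,3,0,3], [],
  [3,0,2,3,0,3,0,3], [], [], [], [], [], [0,3,0,3,0,3], [0,2,3,0,3,0,3], [], [], [], [], [3,3,0,2,3,0,3,0,3]], [[],
  [], [], [], [], [], [], [], [], [], [], [], [], [], [], [], [], [], []], [], [], [[0,3,0,3,3,0,3],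
  [0,3,3,0,3,0,3], [3,3,0,3,0,3], [3,0,3,0,2,3], [0,3,2,3,0,3,0,3], [], [3,2,3,0,3,0,3], [], [0,3,0,3,0,2,3], [],
  [], [], [], [], [], [], [], [], [3,0,3,3,0,3]], [[0,3,0,2,3,0,3], [0,3,3,2,0,3,0,3], [3,3,2,0,3,0,3],
  [3,1,0,3,0,3], [0,3,3,0,3,2,0,3], [], [3,3,0,3,2,0,3], [], [0,3,1,0,3,0,3], [], [], [], [2], [], [], [], [], [],
  [3,0,2,3,0,3]], [], [], [[], [], [], [], [], [], [], [], [], [], [], [], [], [], [], [], [], [], []], [],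
  [[2,0,3,0,3,0,3,0,3], [0,3,0,3,0,3,0,3], [1,0,3,0,3], [1,3], [3,3,0,3,0,2,3,0,3], [], [0,2,3,0,3], [],
  [0,3,3,0,3,0,3,0,3], [], [], [], [3,2,0,3,0,3], [3,0,3,2,0,3], [], [], [], [], []]]

/-- entry of a table -/
def tg (T : List (List (List ℕ))) (a b : ℕ) : List ℕ := (T.getD a []).getD b []

/-- the test -/
def chk (g : List ℕ) (T : List (List (List ℕ))) (i j : Fin 12) : Bool :=
  decide (i = j) || eqW (g ++ tg tR (pn i) (pn j)) (tg tR (act g (pn i)) (act g (pn j)) ++ (tg T (pn i) (pn j)).flatMap sw)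

theorem chk_X : ∀ i j, chk wX tSX i j = true := by decide +kernel
theorem chk_Y : ∀ i j, chk wY tSY i j = true := by decide +kernel

theorem act_rep : ∀ i j : Fin 12, i ≠ j → act (tg tR (pn i) (pn j)) 9 = pn i ∧ act (tg tR (pn i) (pn j)) 16 = pn j := by
  decide +kernel

theorem act_mv : ∀ i j : Fin 12, i ≠ j → i ≠ 7 → i ≠ 10 → j ≠ 7 → j ≠ 10 →
    act ((tg tM (pn i) (pn j)).flatMap sw) 12 = pn i ∧ act ((tg tM (pn i) (pn j)).flatMap sw) 13 = pn j ∧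
    act ((tg tM (pn i) (pn j)).flatMap sw) 9 = 9 ∧ act ((tg tM (pn i) (pn j)).flatMap sw) 16 = 16 := by
  decide +kernel

section rep

variable {F V : Type*} [Field F] [AddCommGroup V] [Module F V] (R : Spor.M12 →* Module.End F V)

/-- the vector `v` is fixed by `gi2, gi3, gs, gr` -/
structure Fix4 (v : V) : Prop where
  i2 : R gi2 v = v
  i3 : R gi3 v = v
  s : R gs v = v
  r : R gr v = v

variable {R}

theorem Fixd.fix4 {v : V} (h : Fixd R v) : Fix4 R v := ⟨h.i2, h.i3, h.s, h.r⟩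

theorem fix_sw {v : V} (h : Fix4 R v) (w : List ℕ) : R (wd (w.flatMap sw)) v = v := by
  induction w with
  | nil => exact rone R v
  | cons k w ih =>
    rw [List.flatMap_cons, wd_append, rmul, ih]
    match k with
    | 0 => exact h.i2
    | 1 => exact h.i3
    | 2 => exact h.s
    | _ + 3 => exact h.r

variable (R)

/-- the vectors -/
def Wv (v : V) (i j : Fin 12) : V := R (wd (tg tR (pn i) (pn j))) v

variable {R}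

theorem Wv_step {v : V} (h : Fix4 R v) {g : List ℕ} {T : List (List (List ℕ))} (hT : ∀ i j, chk g T i j = true)
    {i j : Fin 12} (hij : i ≠ j) : R (wd g) (Wv R v i j) = Wv R v (pm (wd g) i) (pm (wd g) j) := by
  have h1 := hT i j
  rw [chk, Bool.or_eq_true, decide_eq_true_eq] at h1
  have h2 := wd_eq (h1.resolve_left hij)
  rw [Wv, ← rmul, ← wd_append, h2, wd_append, rmul, fix_sw h, Wv, pn_pm, pn_pm]

theorem Wv_act {v : V} (h : Fix4 R v) (g : Spor.M12) :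
    ∀ i j : Fin 12, i ≠ j → R g (Wv R v i j) = Wv R v (pm g i) (pm g j) := by
  have hg : g ∈ Subgroup.closure ({wd wX, wd wY} : Set Spor.M12) := by rw [closure_XY]; trivial
  induction hg using Subgroup.closure_induction with
  | mem g hg =>
    intro i j hij
    rcases hg with rfl | rfl
    · exact Wv_step h chk_X hij
    · exact Wv_step h chk_Y hij
  | one => intro i j _; rw [rone, map_one]; rfl
  | mul a b _ _ ha hb =>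
    intro i j hij
    rw [rmul, hb i j hij, ha _ _ (fun e => hij ((pm b).injective e)), map_mul]
    rfl
  | inv a _ ha =>
    intro i j hij
    have h1 := ha (pm a⁻¹ i) (pm a⁻¹ j) (fun e => hij ((pm a⁻¹).injective e))
    have h2 : ∀ k, pm a (pm a⁻¹ k) = k := by
      intro k
      rw [← Equiv.Perm.mul_apply, ← map_mul, mul_inv_cancel, map_one]
      rfl
    rw [h2, h2] at h1
    rw [← h1, rinv]

theorem Wv_base (v : V) : Wv R v 7 10 = v := rone R v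

/-- the stabiliser of two points is transitive on the other ordered pairs -/
theorem exists_mv {v : V} (h : Fix4 R v) {i j : Fin 12} (hij : i ≠ j) (h1 : i ≠ 7) (h2 : i ≠ 10) (h3 : j ≠ 7) (h4 : j ≠ 10) :
    ∃ g : Spor.M12, R g v = v ∧ pm g 7 = 7 ∧ pm g 10 = 10 ∧ pm g 8 = i ∧ pm g 9 = j := by
  obtain ⟨a1, a2, a3, a4⟩ := act_mv i j hij h1 h2 h3 h4
  refine ⟨wd ((tg tM (pn i) (pn j)).flatMap sw), fix_sw h _, pn_inj _ _ ?_, pn_inj _ _ ?_, pn_inj _ _ ?_, pn_inj _ _ ?_⟩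
  · rw [pn_pm]; exact a3
  · rw [pn_pm]; exact a4
  · rw [pn_pm]; exact a1
  · rw [pn_pm]; exact a2

/-- two-transitivity -/
theorem exists_rep {i j : Fin 12} (hij : i ≠ j) : ∃ g : Spor.M12, pm g 7 = i ∧ pm g 10 = j := by
  obtain ⟨a1, a2⟩ := act_rep i j hij
  refine ⟨wd (tg tR (pn i) (pn j)), pn_inj _ _ ?_, pn_inj _ _ ?_⟩
  · rw [pn_pm]; exact a1
  · rw [pn_pm]; exact a2

end rep

end Cfsg.Agent.H36.M12
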