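import Cfsg.Agent.H36.M12.Two

/-!
# Ten-dimensional modules of `M₁₂` in characteristic two: the family (helper36)
-/

set_option autoImplicit false
set_option maxRecDepth 100000
set_option linter.unusedSectionVars false

namespace Cfsg.Agent.H36.M12

open Module Cfsg Cfsg.Agent.H932.Mt Cfsg.Agent.CoThreeStd.MTwelve Cfsg.Agent.SporadicStructure.M11InvPerms

variable {F V : Type*} [Field F] [AddCommGroup V] [Module F V] [FiniteDimensional F V]
variable (R : Spor.M12 →* Module.End F V)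

theorem rel4 {g h a b c d : Spor.M12} (e : g * h = a * b * c * d) (v : V) : R g (R h v) = R a (R b (R c (R d v))) := by
  rw [← rmul, e, rmul, rmul, rmul]

theorem rel5 {g h a b c d k : Spor.M12} (e : g * h = a * b * c * d * k) (v : V) :
    R g (R h v) = R a (R b (R c (R d (R k v)))) := by
  rw [← rmul, e, rmul, rmul, rmul, rmul]

theorem ee_i2 (v : V) : R gi2 (ee R v) = ee R (R gi2 v) := by
  have k1 : ∀ x, R gi2 (R gh1 x) = R gh2 (R gi2 x) := rel R i2h1
  have k2 : ∀ x, R gi2 (R gh2 x) = R gh1 (R gh1 (R gi2 x)) := rel3 R i2h2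
  have c : ∀ x, R gh2 (R gh1 x) = R gh1 (R gh2 x) := rel R h1h2.symm
  simp only [ee_apply, tri3_apply, map_add, k1, k2, c, cube R h1h1h1, cube R h2h2h2]
  abel

theorem ee_i3 (v : V) : R gi3 (ee R v) = ee R (R gi3 v) := by
  have k1 : ∀ x, R gi3 (R gh1 x) = R gh1 (R gh1 (R gh2 (R gi3 x))) := rel4 R i3h1
  have k2 : ∀ x, R gi3 (R gh2 x) = R gh1 (R gh2 (R gi3 x)) := rel3 R i3h2
  have c : ∀ x, R gh2 (R gh1 x) = R gh1 (R gh2 x) := rel R h1h2.symm
  simp only [ee_apply, tri3_apply, map_add, k1, k2, c, cube R h1h1h1, cube R h2h2h2]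
  abel

theorem ee_rho (v : V) : R grho (ee R v) = ee R (R grho v) := by
  have k1 : ∀ x, R grho (R gh1 x) = R gh1 (R grho x) := rel R rhoh1
  have k2 : ∀ x, R grho (R gh2 x) = R gh1 (R gh2 (R grho x)) := rel3 R rhoh2
  have c : ∀ x, R gh2 (R gh1 x) = R gh1 (R gh2 x) := rel R h1h2.symm
  simp only [ee_apply, tri3_apply, map_add, k1, k2, c, cube R h1h1h1, cube R h2h2h2]
  abel

theorem ee_s1 (v : V) : R gs1 (ee R v) = ee R (R gs1 v) := by
  have k1 : ∀ x, R gs1 (R gh1 x) = R gh1 (R gs1 x) := rel R s1h1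
  have k2 : ∀ x, R gs1 (R gh2 x) = R gh2 (R gh2 (R gh1 (R gh1 (R gs1 x)))) := rel5 R s1h2
  have c : ∀ x, R gh2 (R gh1 x) = R gh1 (R gh2 x) := rel R h1h2.symm
  simp only [ee_apply, tri3_apply, map_add, k1, k2, c, cube R h1h1h1, cube R h2h2h2]
  abel

theorem TT_of (c2 : (2 : F) = 0) {q : Spor.M12} (hq : ∀ v, R q (ee R v) = ee R (R q v)) {t : V} (ht : t ∈ TT R) :
    R q t ∈ TT R := by
  rw [← ee_of_mem R c2 ht, hq]
  exact ee_mem R _

/-- dimensions -/
theorem dims (c2 : (2 : F) = 0) (hirr : Irr R) (hd : finrank F V = 10) :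
    finrank F (LinearMap.ker (ee R)) = 8 ∧ finrank F (TT R) = 2 := by
  have hne : LinearMap.ker (ee R) ≠ ⊥ := by
    intro h0
    apply not_one R hirr hd h1_ne
    apply LinearMap.ext
    intro v
    have h1 : R gh1 v - v ∈ LinearMap.ker (ee R) := by
      rw [LinearMap.mem_ker, map_sub, ee_h1, sub_self]
    rw [h0, Submodule.mem_bot, sub_eq_zero] at h1
    exact h1
  obtain ⟨e1, e2⟩ := lemQ R c2 (LinearMap.ker (ee R)) (fun x hx => hx)
    (fun x hx => by rw [LinearMap.mem_ker] at hx ⊢; rw [ee_h1, hx])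
    (fun x hx => by rw [LinearMap.mem_ker] at hx ⊢; rw [ee_h2, hx])
    (fun x hx => by rw [LinearMap.mem_ker] at hx ⊢; rw [← ee_i2, hx, map_zero])
    (fun x hx => by rw [LinearMap.mem_ker] at hx ⊢; rw [← ee_i3, hx, map_zero])
  have e3 := e2 hne
  have h1 := LinearMap.finrank_range_add_finrank_ker (ee R)
  have h2 : LinearMap.range (ee R) = TT R := by
    apply le_antisymm
    · rintro _ ⟨v, rfl⟩; exact ee_mem R v
    · intro t ht
      exact ⟨t, ee_of_mem R c2 ht⟩
  rw [h2, hd] at h1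
  omega

/-- restriction to `TT` -/
def rs (q : Spor.M12) (hq : ∀ t ∈ TT R, R q t ∈ TT R) : Module.End F (TT R) := (R q).restrict hq

theorem rs_coe (q : Spor.M12) (hq : ∀ t ∈ TT R, R q t ∈ TT R) (t : TT R) : ((rs R q hq t : TT R) : V) = R q t := rfl

theorem i2_fix (c2 : (2 : F) = 0) (hirr : Irr R) (hd : finrank F V = 10) {t : V} (ht : t ∈ TT R) :
    R gi2 t = t ∧ R gi3 t = t := by
  have s2 : ∀ t ∈ TT R, R gi2 t ∈ TT R := fun t ht => TT_of R c2 (ee_i2 R) ht
  have s3 : ∀ t ∈ TT R, R gi3 t ∈ TT R := fun t ht => TT_of R c2 (ee_i3 R) ht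
  have sr : ∀ t ∈ TT R, R grho t ∈ TT R := fun t ht => TT_of R c2 (ee_rho R) ht
  have ss : ∀ t ∈ TT R, R gs1 t ∈ TT R := fun t ht => TT_of R c2 (ee_s1 R) ht
  have s32 : ∀ t ∈ TT R, R (gi3 * gi2) t ∈ TT R := fun t ht => by rw [rmul]; exact s3 _ (s2 _ ht)
  have key := two_dim (dims R c2 hirr hd).2 c2 (rs R gi2 s2) (rs R (gi3 * gi2) s32) (rs R grho sr) (rs R gs1 ss)
    (fun v hv => Subtype.ext (rzero R grho (congrArg Subtype.val hv)))
    (fun v hv => Subtype.ext (rzero R gs1 (congrArg Subtype.val hv)))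
    (by
      apply LinearMap.ext
      intro v
      apply Subtype.ext
      simp only [Module.End.mul_apply, rs_coe, Module.End.one_apply]
      rw [← rmul, i2i2, ← rmul R gi2 gi2, i2i2, tt_v])
    (by
      apply LinearMap.ext
      intro v
      apply Subtype.ext
      simp only [Module.End.mul_apply, rs_coe]
      rw [rmul R gi3, ← rmul R gi2, i2i3i2, ← rmul, ← rmul, i3i3, i2i2])
    (by
      apply LinearMap.ext
      intro v
      apply Subtype.ext
      simp only [Module.End.mul_apply, rs_coe]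
      rw [rmul R gi3, ← rmul R gi2 (gi3 * gi2), i2i3i2, ← rmul R gi2 gi2, ← rmul R gi2 gi2, i2i2, rel R ti3])
    (by
      apply LinearMap.ext
      intro v
      apply Subtype.ext
      simp only [Module.End.mul_apply, rs_coe]
      rw [← rmul, ← rmul, rhoi2])
    (by
      apply LinearMap.ext
      intro v
      apply Subtype.ext
      simp only [Module.End.mul_apply, rs_coe]
      rw [← rmul, ← rmul R gi2, i2i3i2, rhoi3i2, rmul])
    (by
      apply LinearMap.ext
      intro v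
      apply Subtype.ext
      simp only [Module.End.mul_apply, rs_coe]
      rw [← rmul, ← rmul R gi2 gi2, i2i2, ← rmul R gt, ← rmul, s1i2])
    (by
      apply LinearMap.ext
      intro v
      apply Subtype.ext
      simp only [Module.End.mul_apply, rs_coe]
      rw [← rmul, ← rmul R gi2 gi2, i2i2, ← rmul R gt, ← rmul, s1i3i2])
  have k1 : R gi2 t = t := congrArg Subtype.val (LinearMap.congr_fun key.1 ⟨t, ht⟩)
  have k2 : R (gi3 * gi2) t = t := congrArg Subtype.val (LinearMap.congr_fun key.2 ⟨t, ht⟩)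
  rw [rmul, k1] at k2
  exact ⟨k1, k2⟩

/-- images of `t` -/
def yy (t : V) (i : ℕ) : V := R (wd (Rp.getD i [])) t

theorem yy_zero (t : V) : yy R t 0 = t := rone R t

theorem Rp_succ : ∀ i : Fin 9, Rp.getD (i + 1) [] = Ei.getD i [] ++ ws := by decide

theorem yy_succ (t : V) (i : Fin 9) : yy R t (i + 1) = R (wd (Ei.getD i [])) (R gs t) := by
  rw [yy, Rp_succ, wd_append, rmul]; rfl

theorem yy_one (t : V) : yy R t 1 = R gs t := by
  have := yy_succ R t 0
  rw [show Ei.getD ((0 : Fin 9) : ℕ) [] = [] from rfl, show wd [] = 1 from rfl, rone] at this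
  exact this

theorem fix_kw {t : V} (h1 : R gh1 t = t) (h2 : R gh2 t = t) (h3 : R gi2 t = t) (h4 : R gi3 t = t) (w : List ℕ)
    (hw : (w.all fun m => decide (m < 4)) = true) : R (wd (w.flatMap kw)) t = t := by
  induction w with
  | nil => exact rone R t
  | cons a w ih =>
    rw [List.all_cons, Bool.and_eq_true, decide_eq_true_eq] at hw
    rw [List.flatMap_cons, wd_append, rmul, ih hw.2]
    obtain ⟨ha, -⟩ := hw
    interval_cases a
    · exact h1
    · exact h2
    · exact h3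
    · exact h4

theorem fix_kw5 {t : V} (h1 : R gh1 t = t) (h2 : R gh2 t = t) (h3 : R gi2 t = t) (h4 : R gi3 t = t) (h5 : R gs t = t)
    (w : List ℕ) : R (wd (w.flatMap kw)) t = t := by
  induction w with
  | nil => exact rone R t
  | cons a w ih =>
    rw [List.flatMap_cons, wd_append, rmul, ih]
    match a with
    | 0 => exact h1
    | 1 => exact h2
    | 2 => exact h3
    | 3 => exact h4
    | n + 4 => exact h5

theorem yy_act (c2 : (2 : F) = 0) (hirr : Irr R) (hd : finrank F V = 10) {t : V} (ht : t ∈ TT R) (k : Fin 5) (i : Fin 10) :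
    R (wd (kw k)) (yy R t i) = yy R t (tKe k i).1 := by
  obtain ⟨h1, h2⟩ := (mem_TT R).1 ht
  obtain ⟨h3, h4⟩ := i2_fix R c2 hirr hd ht
  obtain ⟨-, e1, e2⟩ := chk_K k i
  rw [yy, ← rmul, ← wd_append, wd_eq e2, wd_append, rmul, fix_kw R h1 h2 h3 h4 _ e1]
  rfl

theorem ee_E (x : V) (i : Fin 9) : ee R (R (wd (Ei.getD i [])) x) = ee R x := by
  match i with
  | 0 => show ee R (R (wd (Ei.getD 0 [])) x) = _; rw [E00, rone]
  | 1 => show ee R (R (wd (Ei.getD 1 [])) x) = _; rw [E01, ee_h2]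
  | 2 => show ee R (R (wd (Ei.getD 2 [])) x) = _; rw [E02, rmul, ee_h2, ee_h2]
  | 3 => show ee R (R (wd (Ei.getD 3 [])) x) = _; rw [E10, ee_h1]
  | 4 => show ee R (R (wd (Ei.getD 4 [])) x) = _; rw [E11, rmul, ee_h1, ee_h2]
  | 5 => show ee R (R (wd (Ei.getD 5 [])) x) = _; rw [E12, rmul, rmul, ee_h1, ee_h2, ee_h2]
  | 6 => show ee R (R (wd (Ei.getD 6 [])) x) = _; rw [E20, rmul, ee_h1, ee_h1]
  | 7 => show ee R (R (wd (Ei.getD 7 [])) x) = _; rw [E21, rmul, rmul, ee_h1, ee_h1, ee_h2]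
  | 8 => show ee R (R (wd (Ei.getD 8 [])) x) = _; rw [E22, rmul, rmul, rmul, ee_h1, ee_h1, ee_h2, ee_h2]

theorem ee_yy_succ (t : V) (i : Fin 9) : ee R (yy R t (i + 1)) = ee R (R gs t) := by rw [yy_succ, ee_E]

theorem sum_yy (t : V) : ∑ i : Fin 9, yy R t (i + 1) = ee R (R gs t) := by
  rw [ee_expand]
  exact Finset.sum_congr rfl fun i _ => yy_succ R t i

theorem ee_yy_ne (t : V) {i : ℕ} (hi : i < 10) (h0 : i ≠ 0) : ee R (yy R t i) = ee R (R gs t) := by
  obtain ⟨j, rfl⟩ := Nat.exists_eq_succ_of_ne_zero h0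
  exact ee_yy_succ R t ⟨j, by omega⟩

/-- the operator `t ↦ ee (s t)` is an involution on `TT` -/
theorem As_invol (c2 : (2 : F) = 0) (hirr : Irr R) (hd : finrank F V = 10) {t : V} (ht : t ∈ TT R) :
    ee R (R gs (ee R (R gs t))) = t := by
  have h1 : ∀ i : Fin 9, ee R (R gs (yy R t (i + 1))) = if i = 0 then t else ee R (R gs t) := by
    intro i
    have h2 := yy_act R c2 hirr hd ht 4 ⟨i + 1, by omega⟩
    have h3 : R gs (yy R t (i + 1)) = yy R t (tKe 4 (i + 1)).1 := h2
    rw [h3]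
    by_cases hi : i = 0
    · subst hi
      rw [if_pos rfl, show (tKe 4 (((0 : Fin 9) : ℕ) + 1)).1 = 0 by decide +kernel, yy_zero, ee_of_mem R c2 ht]
    · rw [if_neg hi]
      apply ee_yy_ne R t (chk_K 4 ⟨i + 1, by omega⟩).1
      apply chk_s ⟨i + 1, by omega⟩
      intro h4
      apply hi
      have h5 := congrArg Fin.val h4
      apply Fin.ext
      have h6 : ((1 : Fin 10) : ℕ) = 1 := rfl
      have h7 : ((0 : Fin 9) : ℕ) = 0 := rfl
      simp only [h6] at h5
      omega
  have h2 : ee R (R gs (ee R (R gs t))) = ∑ i : Fin 9, (if i = 0 then t else ee R (R gs t)) := by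
    calc ee R (R gs (ee R (R gs t))) = ee R (R gs (∑ i : Fin 9, yy R t (i + 1))) := by rw [sum_yy]
      _ = ∑ i : Fin 9, ee R (R gs (yy R t (i + 1))) := by rw [map_sum, map_sum]
      _ = _ := Finset.sum_congr rfl fun i _ => h1 i
  rw [h2, Fin.sum_univ_succ, if_pos rfl]
  have h3 : ∀ i : Fin 8, (if i.succ = 0 then t else ee R (R gs t)) = ee R (R gs t) := fun i =>
    if_neg (Fin.succ_ne_zero i)
  rw [Finset.sum_congr rfl fun i _ => h3 i, Finset.sum_const, Finset.card_univ, Fintype.card_fin]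
  have h4 : (8 : ℕ) • ee R (R gs t) = 0 := by
    rw [← Nat.cast_smul_eq_nsmul F, show ((8 : ℕ) : F) = 2 * 4 by norm_num, c2, zero_mul, zero_smul]
  rw [h4, add_zero]

theorem pre {D : Submodule F V} {g : Spor.M12} (h : ∀ x ∈ D, R g x ∈ D) {d : V} (hd : d ∈ D) : ∃ d' ∈ D, R g d' = d := by
  have hinj : Function.Injective ((R g).restrict h) := by
    intro a b hab
    exact Subtype.ext (rinj R g (congrArg Subtype.val hab))
  obtain ⟨d', h1⟩ := (LinearMap.injective_iff_surjective.1 hinj) ⟨d, hd⟩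
  exact ⟨d', d'.2, congrArg Subtype.val h1⟩

/-- **A vector fixed by the stabiliser of two points.** -/
theorem exists_fix (c2 : (2 : F) = 0) (hirr : Irr R) (hd : finrank F V = 10) (f : LinearMap.BilinForm F V)
    (hf : f.Nondegenerate) (hinv : ∀ g x y, f (R g x) (R g y) = f x y) :
    ∃ v, v ≠ 0 ∧ R gh1 v = v ∧ R gh2 v = v ∧ R gi2 v = v ∧ R gi3 v = v ∧ R gs v = v := by
  obtain ⟨v, hv, hv0, hA⟩ : ∃ v ∈ TT R, v ≠ 0 ∧ ee R (R gs v) = v := by
    obtain ⟨⟨x, hx⟩, hx0⟩ := (finrank_pos_iff_exists_ne_zero (R := F) (M := TT R)).1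
      (by rw [(dims R c2 hirr hd).2]; norm_num)
    have hx0' : x ≠ 0 := fun h => hx0 (Subtype.ext h)
    by_cases h1 : ee R (R gs x) = x
    · exact ⟨x, hx, hx0', h1⟩
    · refine ⟨ee R (R gs x) + x, (TT R).add_mem (ee_mem R _) hx, ?_, ?_⟩
      · intro h2
        apply h1
        rw [eq_neg_of_add_eq_zero_left h2]
        exact neg_self c2 x
      · rw [map_add, map_add, As_invol R c2 hirr hd hx, add_comm]
  have act := fun (k : Fin 5) (i : Fin 10) => yy_act R c2 hirr hd hv k i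
  obtain ⟨h1, h2⟩ := (mem_TT R).1 hv
  obtain ⟨h3, h4⟩ := i2_fix R c2 hirr hd hv
  set D : Submodule F V := Submodule.span F (Set.range fun i : Fin 10 => yy R v i - v) with hD
  have eey : ∀ i : Fin 10, ee R (yy R v i) = v := by
    intro i
    by_cases hi : (i : ℕ) = 0
    · rw [hi, yy_zero, ee_of_mem R c2 hv]
    · rw [ee_yy_ne R v i.2 hi, hA]
  have he : ∀ x ∈ D, ee R x = 0 := by
    intro x hx
    induction hx using Submodule.span_induction with
    | mem x hx =>
      obtain ⟨i, rfl⟩ := hx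
      simp only
      rw [map_sub, eey, ee_of_mem R c2 hv, sub_self]
    | zero => exact map_zero _
    | add x y _ _ hx hy => rw [map_add, hx, hy, add_zero]
    | smul a x _ hx => rw [map_smul, hx, smul_zero]
  have hmem : ∀ (k : Fin 5) (i : Fin 10), yy R v (tKe k i).1 - v ∈ D := by
    intro k i
    have h5 := (chk_K k i).1
    exact Submodule.subset_span ⟨⟨_, h5⟩, rfl⟩
  have st : ∀ k : Fin 5, R (wd (kw k)) v - v ∈ D → ∀ x ∈ D, R (wd (kw k)) x ∈ D := by
    intro k hk x hx
    induction hx using Submodule.span_induction with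
    | mem x hx =>
      obtain ⟨i, rfl⟩ := hx
      simp only
      rw [map_sub, act k i]
      have : yy R v (tKe k i).1 - R (wd (kw k)) v = (yy R v (tKe k i).1 - v) - (R (wd (kw k)) v - v) := by abel
      rw [this]
      exact D.sub_mem (hmem k i) hk
    | zero => rw [map_zero]; exact D.zero_mem
    | add x y _ _ hx hy => rw [map_add]; exact D.add_mem hx hy
    | smul a x _ hx => rw [map_smul]; exact D.smul_mem _ hx
  have s1 : ∀ x ∈ D, R gh1 x ∈ D := st 0 (by show R gh1 v - v ∈ D; rw [h1, sub_self]; exact D.zero_mem)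
  have s2 : ∀ x ∈ D, R gh2 x ∈ D := st 1 (by show R gh2 v - v ∈ D; rw [h2, sub_self]; exact D.zero_mem)
  have s3 : ∀ x ∈ D, R gi2 x ∈ D := st 2 (by show R gi2 v - v ∈ D; rw [h3, sub_self]; exact D.zero_mem)
  have s4 : ∀ x ∈ D, R gi3 x ∈ D := st 3 (by show R gi3 v - v ∈ D; rw [h4, sub_self]; exact D.zero_mem)
  have s5 : ∀ x ∈ D, R gs x ∈ D := st 4 (by
    show R gs v - v ∈ D
    rw [← yy_one]
    exact Submodule.subset_span ⟨1, rfl⟩)
  have hlem := (lemQ R c2 D he s1 s2 s3 s4).2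
  -- isotropic
  have fv : ∀ x ∈ D, f v x = 0 := by
    intro x hx
    have t3 : ∀ g, R g v = v → ∀ y, f v (tri3 R g y) = f v y := by
      intro g hg y
      have e1 : f v (R g y) = f v y := by
        have := hinv g v y
        rwa [hg] at this
      have e2 : f v (R g (R g y)) = f v y := by
        have := hinv g v (R g y)
        rw [hg, e1] at this
        exact this
      rw [tri3_apply, map_add, map_add, e1, e2]
      linear_combination f v y * c2
    have e3 : f v (ee R x) = f v x := by rw [ee_apply, t3 _ h1, t3 _ h2]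
    rw [← e3, he x hx, map_zero]
  have fst : ∀ (g : Spor.M12) (u : V), (∀ x ∈ D, R g x ∈ D) → (∀ x ∈ D, f u x = 0) → ∀ x ∈ D, f (R g u) x = 0 := by
    intro g u hg hu x hx
    obtain ⟨x', hx', rfl⟩ := pre R hg hx
    rw [hinv]
    exact hu x' hx'
  have y0 : ∀ x ∈ D, f (yy R v 0) x = 0 := by rw [yy_zero]; exact fv
  have y1 : ∀ x ∈ D, f (yy R v 1) x = 0 := by
    have := act 4 0
    rw [show (tKe ((4 : Fin 5) : ℕ) ((0 : Fin 10) : ℕ)).1 = 1 by decide +kernel] at this
    rw [← this]; exact fst _ _ s5 y0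
  have y2 : ∀ x ∈ D, f (yy R v 2) x = 0 := by
    have := act 1 1
    rw [show (tKe ((1 : Fin 5) : ℕ) ((1 : Fin 10) : ℕ)).1 = 2 by decide +kernel] at this
    rw [← this]; exact fst _ _ s2 y1
  have y3 : ∀ x ∈ D, f (yy R v 3) x = 0 := by
    have := act 1 2
    rw [show (tKe ((1 : Fin 5) : ℕ) ((2 : Fin 10) : ℕ)).1 = 3 by decide +kernel] at this
    rw [← this]; exact fst _ _ s2 y2
  have y4 : ∀ x ∈ D, f (yy R v 4) x = 0 := by
    have := act 0 1
    rw [show (tKe ((0 : Fin 5) : ℕ) ((1 : Fin 10) : ℕ)).1 = 4 by decide +kernel] at this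
    rw [← this]; exact fst _ _ s1 y1
  have y5 : ∀ x ∈ D, f (yy R v 5) x = 0 := by
    have := act 1 4
    rw [show (tKe ((1 : Fin 5) : ℕ) ((4 : Fin 10) : ℕ)).1 = 5 by decide +kernel] at this
    rw [← this]; exact fst _ _ s2 y4
  have y6 : ∀ x ∈ D, f (yy R v 6) x = 0 := by
    have := act 1 5
    rw [show (tKe ((1 : Fin 5) : ℕ) ((5 : Fin 10) : ℕ)).1 = 6 by decide +kernel] at this
    rw [← this]; exact fst _ _ s2 y5
  have y7 : ∀ x ∈ D, f (yy R v 7) x = 0 := by
    have := act 0 4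
    rw [show (tKe ((0 : Fin 5) : ℕ) ((4 : Fin 10) : ℕ)).1 = 7 by decide +kernel] at this
    rw [← this]; exact fst _ _ s1 y4
  have y8 : ∀ x ∈ D, f (yy R v 8) x = 0 := by
    have := act 1 7
    rw [show (tKe ((1 : Fin 5) : ℕ) ((7 : Fin 10) : ℕ)).1 = 8 by decide +kernel] at this
    rw [← this]; exact fst _ _ s2 y7
  have y9 : ∀ x ∈ D, f (yy R v 9) x = 0 := by
    have := act 1 8
    rw [show (tKe ((1 : Fin 5) : ℕ) ((8 : Fin 10) : ℕ)).1 = 9 by decide +kernel] at this
    rw [← this]; exact fst _ _ s2 y8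
  have yall : ∀ i : Fin 10, ∀ x ∈ D, f (yy R v i) x = 0 := by
    intro i
    match i with
    | 0 => exact y0
    | 1 => exact y1
    | 2 => exact y2
    | 3 => exact y3
    | 4 => exact y4
    | 5 => exact y5
    | 6 => exact y6
    | 7 => exact y7
    | 8 => exact y8
    | 9 => exact y9
  have iso : ∀ a ∈ D, ∀ x ∈ D, f a x = 0 := by
    intro a ha x hx
    induction ha using Submodule.span_induction with
    | mem a ha =>
      obtain ⟨i, rfl⟩ := ha
      simp only
      rw [map_sub, LinearMap.sub_apply, yall i x hx, fv x hx, sub_self]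
    | zero => rw [map_zero, LinearMap.zero_apply]
    | add a b _ _ ha hb => rw [map_add, LinearMap.add_apply, ha, hb, add_zero]
    | smul c a _ ha => rw [map_smul, LinearMap.smul_apply, ha, smul_zero]
  have hle : finrank F D ≤ 5 := by
    have e1 : D ≤ f.orthogonal D := fun x hx => by
      rw [LinearMap.BilinForm.mem_orthogonal_iff]
      intro a ha
      exact iso a ha x hx
    have e2 := LinearMap.BilinForm.finrank_orthogonal hf D
    have e3 := Submodule.finrank_mono e1
    have e4 := Submodule.finrank_le D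
    omega
  have hbot : D = ⊥ := by
    by_contra hne
    have := hlem hne
    omega
  refine ⟨v, hv0, h1, h2, h3, h4, ?_⟩
  have h5 : yy R v 1 - v ∈ D := Submodule.subset_span ⟨1, rfl⟩
  rw [hbot, Submodule.mem_bot, sub_eq_zero, yy_one] at h5
  exact h5

theorem fix_mw {U : Submodule F V} (h1 : ∀ u ∈ U, R gi2 u ∈ U) (h2 : ∀ u ∈ U, R gi3 u ∈ U) (h3 : ∀ u ∈ U, R gs u ∈ U)
    (h4 : ∀ u ∈ U, R gr u ∈ U) (h5 : ∀ u ∈ U, R grho u ∈ U) (w : List ℕ) : ∀ u ∈ U, R (wd (w.flatMap mw)) u ∈ U := by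
  induction w with
  | nil => intro u hu; rw [show wd (([] : List ℕ).flatMap mw) = 1 from rfl, rone]; exact hu
  | cons a w ih =>
    intro u hu
    rw [List.flatMap_cons, wd_append, rmul]
    have h := ih u hu
    match a with
    | 0 => exact h1 _ h
    | 1 => exact h2 _ h
    | 2 => exact h3 _ h
    | 3 => exact h4 _ h
    | n + 4 => exact h5 _ h

theorem top_of_mw (hirr : Irr R) {U : Submodule F V} (h1 : ∀ u ∈ U, R gi2 u ∈ U) (h2 : ∀ u ∈ U, R gi3 u ∈ U)
    (h3 : ∀ u ∈ U, R gs u ∈ U) (h4 : ∀ u ∈ U, R gr u ∈ U) (h5 : ∀ u ∈ U, R grho u ∈ U) : U = ⊥ ∨ U = ⊤ := by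
  apply hirr
  intro g
  have hg : g ∈ Subgroup.closure ({wd wX, wd wY} : Set Spor.M12) := by rw [closure_XY]; trivial
  induction hg using Subgroup.closure_induction with
  | mem x hx =>
    rcases hx with rfl | hx
    · rw [X_word]; exact fix_mw R h1 h2 h3 h4 h5 _
    · rw [Set.mem_singleton_iff.1 hx, Y_word]; exact fix_mw R h1 h2 h3 h4 h5 _
  | one => intro u hu; rwa [rone]
  | mul x y _ _ hx hy => intro u hu; rw [rmul]; exact hx _ (hy _ hu)
  | inv x _ hx =>
    intro u hu
    obtain ⟨u', hu', h6⟩ := pre R hx hu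
    rw [← h6, rinv]
    exact hu'

theorem pm_rho : pm grho 7 = 10 ∧ pm grho 10 = 8 ∧ pm grho 8 = 7 :=
  ⟨pm_val (by decide +kernel), pm_val (by decide +kernel), pm_val (by decide +kernel)⟩

/-- **The family in characteristic two.** -/
theorem exists_fam_two (c2 : (2 : F) = 0) (hirr : Irr R) (hd : finrank F V = 10) (f : LinearMap.BilinForm F V)
    (hf : f.Nondegenerate) (hinv : ∀ g x y, f (R g x) (R g y) = f x y) : ∃ W, Fam R W := by
  obtain ⟨v, hv0, h1, h2, h3, h4, h5⟩ := exists_fix R c2 hirr hd f hf hinv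
  have hT2 := (dims R c2 hirr hd).2
  have hr : ∀ t, R gh1 t = t → R gh2 t = t → R gi2 t = t → R gi3 t = t → R gs t = t → R gr t = t := by
    intro t a1 a2 a3 a4 a5
    rw [r_word]; exact fix_kw5 R a1 a2 a3 a4 a5 _
  have h6 := hr v h1 h2 h3 h4 h5
  have hfix : Fix4 R v := ⟨h3, h4, h5, h6⟩
  have hvT : v ∈ TT R := (mem_TT R).2 ⟨h1, h2⟩
  have hrho : ∀ t ∈ TT R, R grho t ∈ TT R := fun t ht => TT_of R c2 (ee_rho R) ht
  -- a vector of `TT` independent of `v`
  have span2 : ∀ w ∈ TT R, (∀ c : F, w ≠ c • v) → ∀ t ∈ TT R, ∃ a b : F, t = a • v + b • w := by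
    intro w hw hne t ht
    have hli : LinearIndependent F ![(⟨v, hvT⟩ : TT R), ⟨w, hw⟩] := by
      rw [LinearIndependent.pair_iff]
      intro a b hab
      have hab' : a • v + b • w = 0 := congrArg Subtype.val hab
      have hb : b = 0 := by
        by_contra hb
        apply hne (-(b⁻¹ * a))
        have : w = b⁻¹ • (b • w) := by rw [inv_smul_smul₀ hb]
        rw [this, eq_neg_of_add_eq_zero_right hab', smul_neg, smul_smul, neg_smul]
      rw [hb, zero_smul, add_zero] at hab'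
      exact ⟨(smul_eq_zero.1 hab').resolve_right hv0, hb⟩
    have h7 := hli.span_eq_top_of_card_eq_finrank (by rw [hT2]; rfl)
    have hz : (⟨t, ht⟩ : TT R) ∈ Submodule.span F (Set.range ![(⟨v, hvT⟩ : TT R), ⟨w, hw⟩]) := by rw [h7]; trivial
    rw [Matrix.range_cons, Matrix.range_cons, Matrix.range_empty, Set.union_empty, Set.singleton_union,
      Submodule.mem_span_pair] at hz
    obtain ⟨a, b, h8⟩ := hz
    exact ⟨a, b, (congrArg Subtype.val h8).symm⟩
  have top_ne : ∀ U : Submodule F V, U = ⊤ → finrank F U ≤ 2 → False := by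
    rintro U rfl h7
    rw [finrank_top, hd] at h7
    omega
  -- `ge2 v = v`
  have he2 : R ge2 v = v := by
    by_contra hne
    have f1 : R gh1 (R ge2 v) = R ge2 v := by rw [rel R h1e2, fix_kw5 R h1 h2 h3 h4 h5]
    have f2 : R gh2 (R ge2 v) = R ge2 v := by rw [rel R h2e2, fix_kw5 R h1 h2 h3 h4 h5]
    have f3 : R gi2 (R ge2 v) = R ge2 v := by rw [rel R i2e2', fix_kw5 R h1 h2 h3 h4 h5]
    have f4 : R gi3 (R ge2 v) = R ge2 v := by rw [rel R i3e2', fix_kw5 R h1 h2 h3 h4 h5]
    have f5 : R gs (R ge2 v) = R ge2 v := by rw [rel R se2', fix_kw5 R h1 h2 h3 h4 h5]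
    have f6 := hr _ f1 f2 f3 f4 f5
    have hw : R ge2 v ∈ TT R := (mem_TT R).2 ⟨f1, f2⟩
    have hne' : ∀ c : F, R ge2 v ≠ c • v := by
      intro c hc
      have h8 := e2_v R v
      rw [hc, map_smul, hc, smul_smul] at h8
      have h9 : (c * c - 1) • v = 0 := by rw [sub_smul, h8, one_smul, sub_self]
      have h10 := (smul_eq_zero.1 h9).resolve_right hv0
      have h11 : (c - 1) * (c - 1) = 0 := by linear_combination h10 - (c - 1) * c2
      have h12 : c = 1 := sub_eq_zero.1 (mul_self_eq_zero.1 h11)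
      rw [h12, one_smul] at hc
      exact hne hc
    have sp := span2 _ hw hne'
    have fall : ∀ g, R g v = v → R g (R ge2 v) = R ge2 v → ∀ u ∈ TT R, R g u ∈ TT R := by
      intro g g1 g2 u hu
      obtain ⟨a, b, rfl⟩ := sp u hu
      rw [map_add, map_smul, map_smul, g1, g2]
      exact hu
    rcases top_of_mw R hirr (fall _ h3 f3) (fall _ h4 f4) (fall _ h5 f5) (fall _ h6 f6) hrho with h7 | h7
    · rw [h7, finrank_bot] at hT2; omega
    · exact top_ne _ h7 (by rw [hT2])
  have hneg : R ge2 v = -v := by rw [he2]; exact (neg_self c2 v).symm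
  have sym : ∀ i j : Fin 12, i ≠ j → Wv R v j i = Wv R v i j := by
    intro i j hij
    obtain ⟨g, g1, g2⟩ := exists_rep hij
    have a1 := Wv_act hfix g 7 10 (by decide)
    have a2 := Wv_act hfix g 10 7 (by decide)
    have a3 := Wv_act hfix ge2 7 10 (by decide)
    rw [g1, g2, Wv_base] at a1
    rw [g1, g2] at a2
    rw [pm_e2.1, pm_e2.2.2.2, Wv_base, he2] at a3
    rw [← a2, ← a3, a1]
  set w := R grho v with hw
  have hwT : w ∈ TT R := hrho v hvT
  have hwne : ∀ c : F, w ≠ c • v := by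
    intro c hc
    have st : ∀ g, R g v ∈ Submodule.span F {v} → ∀ u ∈ Submodule.span F {v}, R g u ∈ Submodule.span F {v} := by
      intro g hg u hu
      obtain ⟨a, rfl⟩ := Submodule.mem_span_singleton.1 hu
      rw [map_smul]
      exact Submodule.smul_mem _ _ hg
    have self : v ∈ Submodule.span F {v} := Submodule.mem_span_singleton_self v
    rcases top_of_mw R hirr (U := Submodule.span F {v}) (st _ (by rw [h3]; exact self)) (st _ (by rw [h4]; exact self))
      (st _ (by rw [h5]; exact self)) (st _ (by rw [h6]; exact self))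
      (st _ (by rw [← hw, hc]; exact Submodule.smul_mem _ _ self)) with h7 | h7
    · rw [h7, Submodule.mem_bot] at self
      exact hv0 self
    · refine top_ne _ h7 ?_
      rw [finrank_span_singleton hv0]; norm_num
  obtain ⟨a, b, hab⟩ := span2 w hwT hwne (R grho w) (hrho w hwT)
  have uniq : ∀ c d : F, c • v + d • w = 0 → c = 0 ∧ d = 0 := by
    intro c d hcd
    have hd0 : d = 0 := by
      by_contra hb
      apply hwne (-(d⁻¹ * c))
      have : w = d⁻¹ • (d • w) := by rw [inv_smul_smul₀ hb]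
      rw [this, eq_neg_of_add_eq_zero_right hcd, smul_neg, smul_smul, neg_smul]
    rw [hd0, zero_smul, add_zero] at hcd
    exact ⟨(smul_eq_zero.1 hcd).resolve_right hv0, hd0⟩
  have hs1v : R gs1 v = v := by rw [s1_word, rmul, fix_kw5 R h1 h2 h3 h4 h5, he2]
  have hs1w : R gs1 w = a • v + b • w := by
    rw [hw, rel3 R s1rho, hs1v, ← hw, hab]
  have q1 : (a + b * a) • v + (b * b - 1) • w = 0 := by
    have h7 : R gs1 (R gs1 w) = w := by rw [← rmul, s1s1, rone]
    rw [hs1w, map_add, map_smul, map_smul, hs1v, hs1w, smul_add, smul_smul, smul_smul] at h7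
    rw [add_smul, sub_smul, one_smul]
    nth_rewrite 2 [← h7]
    abel
  have q2 : (b * a - 1) • v + (a + b * b) • w = 0 := by
    have h7 : R grho (R grho w) = v := by rw [hw, ← rmul, ← rmul, rhorhorho, rone]
    rw [hab, map_add, map_smul, map_smul, ← hw, hab, smul_add, smul_smul, smul_smul] at h7
    rw [sub_smul, one_smul, add_smul]
    nth_rewrite 2 [← h7]
    abel
  obtain ⟨-, q3⟩ := uniq _ _ q1
  obtain ⟨q4, -⟩ := uniq _ _ q2
  have hb1 : b = 1 := by
    have h11 : (b - 1) * (b - 1) = 0 := by linear_combination q3 - (b - 1) * c2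
    exact sub_eq_zero.1 (mul_self_eq_zero.1 h11)
  have ha1 : a = 1 := by rw [hb1, one_mul] at q4; exact sub_eq_zero.1 q4
  rw [ha1, hb1, one_smul, one_smul] at hab
  -- the cocycle relation
  have w1 : Wv R v 10 8 = w := by
    have := Wv_act hfix grho 7 10 (by decide)
    rw [pm_rho.1, pm_rho.2.1, Wv_base] at this
    rw [← this]
  have w2 : Wv R v 8 7 = v + w := by
    have := Wv_act hfix grho 10 8 (by decide)
    rw [pm_rho.2.1, pm_rho.2.2, w1, hab] at this
    rw [← this]
  have hbase : Wv R v 7 8 + Wv R v 8 10 = v := by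
    rw [sym 8 7 (by decide), w2, sym 10 8 (by decide), w1, add_assoc, dbl c2, add_zero]
  refine ⟨_, fam_of hfix hv0 hneg fun c hc7 hc10 => ?_⟩
  obtain ⟨d, e, d7, d10, e7, e10, hcd, hce, hde⟩ := exists_others c hc7 hc10
  obtain ⟨g, gv, g7, g10, g8, g9⟩ := exists_mv hfix hcd hc7 hc10 d7 d10
  have h7 := congrArg (R g) hbase
  rw [gv, map_add, Wv_act hfix _ 7 8 (by decide), Wv_act hfix _ 8 10 (by decide), g7, g8, g10] at h7
  exact h7

end Cfsg.Agent.H36.M12
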