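import Cfsg.Agent.H36.M12.Double
import Cfsg.Agent.H36.M12.TwoFix
import Cfsg.Agent.H6.M11.Stage12
import Cfsg.Agent.H933.O10.Eleven
import Cfsg.Agent.OddHalf.Table.OutMTwelve
import Cfsg.Agent.ClassicalGeometry.OrthDickson

/-!
# `M₁₂` is no residual core in `Ω₁₀^±(q)` (helper36)
-/

set_option autoImplicit false
set_option maxRecDepth 100000

namespace Cfsg.Agent.H36.M12

open Cfsg Cfsg.Geo Module Cfsg.Agent.H915.LD Cfsg.Agent.H933.O10 Cfsg.Agent.CoThreeStd.MTwelve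
open Cfsg.Agent.SporadicStructure.M11InvPerms Cfsg.Agent.CoThreeStd.OutAut
open scoped Matrix

local notation "αα" => Cfsg.Agent.CoThreeStd.OutAut.alpha

universe u

/-! ### words -/

theorem wd_rep (l : List ℕ) (n : ℕ) : wd (List.replicate n l).flatten = wd l ^ n := by
  induction n with
  | zero => rw [pow_zero]; rfl
  | succ n ih => rw [List.replicate_succ, List.flatten_cons, wd_append, ih, pow_succ']

/-- an element of order 11 -/
def xe : Spor.M12 := wd [1,0,5,2]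
/-- `ye xe ye⁻¹ = xe³` -/
def ye : Spor.M12 := wd [1,5,1,5]
/-- `al me = me⁻¹` -/
def me : Spor.M12 := wd [4,2]

theorem xe_pow : xe ^ 11 = 1 := by
  rw [xe, ← wd_rep]
  exact wd_eq (l' := []) (by decide +kernel)
theorem xe_ne : xe ≠ 1 := wd_ne (l' := []) 0 (by norm_num) (by decide +kernel)
theorem yx : ye * xe = xe ^ 3 * ye := by
  rw [xe, ye, ← wd_rep, ← wd_append, ← wd_append]
  exact wd_eq (by decide +kernel)
theorem al_me : αα me * me = 1 := by
  rw [me, alpha_wd, ← wd_append]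
  exact wd_eq (l' := []) (by decide +kernel)
theorem al_xe : αα (me * xe * me⁻¹) * xe = 1 := by
  rw [me, xe, wd_reverse, ← wd_append, ← wd_append, alpha_wd, ← wd_append]
  exact wd_eq (l' := []) (by decide +kernel)

variable {F : Type u} [Field F] {p : ℕ} {Q : (Fin 10 → F) → F} {H P : Subgroup (GL (Fin 10) F)}

/-- the representation -/
def RR (e : P ≃* Spor.M12) : Spor.M12 →* Module.End F (Fin 10 → F) := (rp P).comp e.symm.toMonoidHom

theorem RR_apply (e : P ≃* Spor.M12) (m : Spor.M12) (v : Fin 10 → F) :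
    RR e m v = ((e.symm m : GL (Fin 10) F) : Matrix (Fin 10) (Fin 10) F) *ᵥ v := rfl

theorem irr_RR (hC : Core P) (e : P ≃* Spor.M12) : Irr (RR e) := by
  intro W hW
  by_cases hb : W = ⊥
  · exact Or.inl hb
  · right
    obtain ⟨w, hw, hw0⟩ := Submodule.exists_mem_ne_zero_of_ne_bot hb
    obtain ⟨j, hj⟩ : ∃ j, w j ≠ 0 := by
      by_contra hc
      push Not at hc
      exact hw0 (funext hc)
    let S : Submodule F (Matrix (Fin 10) (Fin 10) F) :=
      { carrier := {M | ∀ x ∈ W, M *ᵥ x ∈ W}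
        add_mem' := fun {A B} hA hB x hx => by
          rw [Matrix.add_mulVec]
          exact W.add_mem (hA x hx) (hB x hx)
        zero_mem' := fun x _ => by rw [Matrix.zero_mulVec]; exact W.zero_mem
        smul_mem' := fun c A hA x hx => by
          rw [Matrix.smul_mulVec]
          exact W.smul_mem _ (hA x hx) }
    have hS : S = ⊤ := by
      rw [eq_top_iff, ← H920.span_eq_top hC.absIrred, Submodule.span_le]
      rintro _ ⟨g, hg, rfl⟩ x hx
      have h1 := hW (e ⟨g, hg⟩) x hx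
      rw [RR_apply, MulEquiv.symm_apply_apply] at h1
      exact h1
    rw [eq_top_iff]
    intro x _
    have h1 : Matrix.vecMulVec x (Pi.single j (w j)⁻¹) ∈ S := by rw [hS]; trivial
    have h2 := h1 w hw
    rw [Matrix.vecMulVec_mulVec, single_dotProduct, inv_mul_cancel₀ hj] at h2
    simpa using h2

theorem finrank_ten : finrank F (Fin 10 → F) = 10 := by
  rw [Module.finrank_fintype_fun_eq_card, Fintype.card_fin]

/-! ### elements of `H` -/

/-- the automorphism induced by an element of `H` -/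
def au (hn : ∀ h ∈ H, ∀ x ∈ P, h * x * h⁻¹ ∈ P) {x : GL (Fin 10) F} (hx : x ∈ H) : MulAut P where
  toFun g := ⟨x * g * x⁻¹, hn x hx g g.2⟩
  invFun g := ⟨x⁻¹ * g * x, by simpa using hn x⁻¹ (inv_mem hx) g g.2⟩
  left_inv g := Subtype.ext (by simp [mul_assoc])
  right_inv g := Subtype.ext (by simp [mul_assoc])
  map_mul' a b := Subtype.ext (by simp [mul_assoc])

theorem au_coe (hn : ∀ h ∈ H, ∀ x ∈ P, h * x * h⁻¹ ∈ P) {x : GL (Fin 10) F} (hx : x ∈ H) (g : P) :
    (au hn hx g : GL (Fin 10) F) = x * g * x⁻¹ := rfl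

/-- the automorphism of `M₁₂` induced by an element of `H` -/
def th (e : P ≃* Spor.M12) (hn : ∀ h ∈ H, ∀ x ∈ P, h * x * h⁻¹ ∈ P) {x : GL (Fin 10) F} (hx : x ∈ H) :
    MulAut Spor.M12 := (e.symm.trans (au hn hx)).trans e

theorem th_coe (e : P ≃* Spor.M12) (hn : ∀ h ∈ H, ∀ x ∈ P, h * x * h⁻¹ ∈ P) {x : GL (Fin 10) F} (hx : x ∈ H)
    (m : Spor.M12) : (e.symm (th e hn hx m) : GL (Fin 10) F) = x * (e.symm m : GL (Fin 10) F) * x⁻¹ := by
  show (e.symm (e (au hn hx (e.symm m))) : GL (Fin 10) F) = _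
  rw [MulEquiv.symm_apply_apply, au_coe]

/-- an element of `H` centralising `P` is `1` or `-1` -/
theorem cent_H (h : Cx p Q H P) {y : GL (Fin 10) F} (hy : y ∈ H) (hc : ∀ g ∈ P, y * g * y⁻¹ = g) :
    ∃ c : F, c ^ 2 = 1 ∧ (y : Matrix (Fin 10) (Fin 10) F) = c • (1 : Matrix (Fin 10) (Fin 10) F) := by
  have h1 := h.hc.centralizer_scalar y hy (fun x hx => by
    rw [hc x hx, mul_inv_cancel]; exact Subgroup.one_mem _)
  obtain ⟨c, hc⟩ := (mem_scalars_iff _).1 h1
  refine ⟨c, ?_, hc⟩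
  obtain ⟨v, hv⟩ := H879.TL.exists_ne_of_nondeg h.hQ
  have h2 := fix_of_mem_omegaGL (h.hH.1.le hy) v
  rw [hc, Matrix.smul_mulVec, Matrix.one_mulVec, h.hQ.smul] at h2
  have h4 : ((c : F) ^ 2 - 1) * Q v = 0 := by rw [sub_mul, h2, one_mul, sub_self]
  exact sub_eq_zero.1 ((mul_eq_zero.1 h4).resolve_right hv)

theorem inner_case (h : Cx p Q H P) (e : P ≃* Spor.M12) {x : GL (Fin 10) F} (hx : x ∈ H) {m0 : Spor.M12}
    (hm : ∀ m, th e h.hc.normal hx m = m0 * m * m0⁻¹) :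
    ∃ c : F, c ^ 2 = 1 ∧ ∀ v, (x : Matrix (Fin 10) (Fin 10) F) *ᵥ v = c • RR e m0 v := by
  have hg0 : (e.symm m0 : GL (Fin 10) F) ∈ H := h.hc.le (e.symm m0).2
  obtain ⟨c, hc2, hc⟩ := cent_H h (y := (e.symm m0 : GL (Fin 10) F)⁻¹ * x) (H.mul_mem (H.inv_mem hg0) hx) (by
    intro g hg
    have h1 := th_coe e h.hc.normal hx (e ⟨g, hg⟩)
    rw [hm, MulEquiv.symm_apply_apply] at h1
    simp only [map_mul, map_inv, MulEquiv.symm_apply_apply, Subgroup.coe_mul, Subgroup.coe_inv] at h1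
    rw [mul_inv_rev, inv_inv]
    calc (e.symm m0 : GL (Fin 10) F)⁻¹ * x * g * (x⁻¹ * (e.symm m0 : GL (Fin 10) F)) =
        (e.symm m0 : GL (Fin 10) F)⁻¹ * (x * g * x⁻¹) * (e.symm m0 : GL (Fin 10) F) := by simp only [mul_assoc]
      _ = g := by rw [← h1]; group)
  refine ⟨c, hc2, fun v => ?_⟩
  have h3 : x = (e.symm m0 : GL (Fin 10) F) * ((e.symm m0 : GL (Fin 10) F)⁻¹ * x) := by group
  rw [h3, Units.val_mul, hc, RR_apply, Matrix.mul_smul, Matrix.mul_one, Matrix.smul_mulVec]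

theorem x_apply (e : P ≃* Spor.M12) (hn : ∀ h ∈ H, ∀ x ∈ P, h * x * h⁻¹ ∈ P) {x : GL (Fin 10) F} (hx : x ∈ H)
    (m : Spor.M12) (v : Fin 10 → F) : (x : Matrix (Fin 10) (Fin 10) F) *ᵥ RR e m v =
      RR e (th e hn hx m) ((x : Matrix (Fin 10) (Fin 10) F) *ᵥ v) := by
  rw [RR_apply, RR_apply, th_coe, Matrix.mulVec_mulVec, Matrix.mulVec_mulVec, ← Units.val_mul, ← Units.val_mul,
    inv_mul_cancel_right]

/-- the conclusion from a family and inner automorphisms -/
theorem final [Finite F] (h : Cx p Q H P) (e : P ≃* Spor.M12) {W : Fin 12 → Fin 12 → (Fin 10 → F)} (hW : Fam (RR e) W)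
    (hin : ∀ x (hx : x ∈ H), ∃ m0, ∀ m, th e h.hc.normal hx m = m0 * m * m0⁻¹) (h2 : Nonempty (Soc P ≃* Spor.M12)) :
    False := by
  have h12 := hW.twelve (irr_RR h.core e) finrank_ten
  have h23 : (2 : F) = 0 ∨ (3 : F) = 0 := by
    have h3 : (2 : F) * 2 * 3 = 0 := by rw [← h12]; norm_num
    rcases mul_eq_zero.1 h3 with h4 | h4
    · exact Or.inl (mul_self_eq_zero.1 h4)
    · exact Or.inr h4
  obtain ⟨E⟩ := Cx.twelve h h23 (W := W) hW.add ⟨7, 10, hW.ne _ _ (by decide)⟩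
    (fun g hg => ⟨pm (e ⟨g, hg⟩), fun i j => by
      have h1 := hW.act (e ⟨g, hg⟩) i j
      rw [RR_apply, MulEquiv.symm_apply_apply] at h1
      exact h1⟩)
    (fun i j k l hij hkl => by
      obtain ⟨m, hm1, hm2⟩ := exists_two i j k l hij hkl
      refine ⟨e.symm m, (e.symm m).2, ?_⟩
      have h1 := hW.act m i j
      rw [RR_apply, hm1, hm2] at h1
      exact h1)
    (fun x hx i j hij => by
      obtain ⟨m0, hm0⟩ := hin x hx
      obtain ⟨c, hc2, hc⟩ := inner_case h e hx hm0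
      have hne : pm m0 i ≠ pm m0 j := fun h1 => hij ((pm m0).injective h1)
      have h6 : (c - 1) * (c + 1) = 0 := by linear_combination hc2
      rcases mul_eq_zero.1 h6 with h7 | h7
      · exact ⟨_, _, hne, by rw [hc, hW.act, sub_eq_zero.1 h7, one_smul]⟩
      · exact ⟨_, _, hne.symm, by rw [hc, hW.act, eq_neg_of_add_eq_zero_left h7, neg_one_smul, hW.neg (pm m0 i)]⟩)
  obtain ⟨e2⟩ := h2
  have h3 := Nat.card_congr (e2.symm.trans E).toEquiv
  rw [Cfsg.Agent.MTwelveType.SylowModel.card_M12, Nat.card_eq_fintype_card] at h3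
  have h4 := two_mul_card_alternatingGroup (α := Fin 12)
  rw [← h3, Fintype.card_perm, Fintype.card_fin] at h4
  revert h4
  decide +kernel

/-- inner or outer -/
theorem th_cases (θ : MulAut Spor.M12) : (∃ m0, ∀ m, θ m = m0 * m * m0⁻¹) ∨ ∃ m0, ∀ m, θ m = αα (m0 * m * m0⁻¹) := by
  rcases Cfsg.Agent.OddHalf.Table.OutMTwelve.mem_or_mem θ with ⟨m0, hm0⟩ | ⟨m0, hm0⟩
  · exact Or.inl ⟨m0, fun m => by rw [← hm0]; rfl⟩
  · refine Or.inr ⟨m0, fun m => ?_⟩
    have h1 : MulAut.conj m0 m = αα (θ m) := by rw [hm0]; rfl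
    rw [MulAut.conj_apply] at h1
    rw [h1, alpha_alpha]

/-! ### odd characteristic -/

theorem kill_odd_aux [Finite F] (h : Cx p Q H P) (e : P ≃* Spor.M12) (h2 : (2 : F) ≠ 0) {v : Fin 10 → F}
    (hv : Fixd (RR e) v) (hS : Nonempty (Soc P ≃* Spor.M12)) : False := by
  have hirr := irr_RR h.core e
  refine final h e (hv.fam h2 hirr finrank_ten) ?_ hS
  intro x hx
  rcases th_cases (th e h.hc.normal hx) with h1 | ⟨m0, hm0⟩
  · exact h1
  · exfalso
    have key : ∀ (m : Spor.M12) (w : Fin 10 → F),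
        RR e (beta m) (RR e gs ((x : Matrix (Fin 10) (Fin 10) F) *ᵥ RR e m0⁻¹ w)) =
          RR e gs ((x : Matrix (Fin 10) (Fin 10) F) *ᵥ RR e m0⁻¹ (RR e m w)) := by
      intro m w
      have hb : beta m = gs * αα m * gs⁻¹ := rfl
      have h3 : th e h.hc.normal hx (m0⁻¹ * m * m0) = αα m := by
        rw [hm0, show m0 * (m0⁻¹ * m * m0) * m0⁻¹ = m by group]
      have h4 := x_apply e h.hc.normal hx (m0⁻¹ * m * m0) (RR e m0⁻¹ w)
      rw [h3, ← rmul (RR e) (m0⁻¹ * m * m0), mul_inv_cancel_right, rmul] at h4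
      rw [hb, rmul, rmul, rinv, h4]
    apply not_both (RR e) h2 hirr finrank_ten hv (v' := RR e gs ((x : Matrix (Fin 10) (Fin 10) F) *ᵥ RR e m0⁻¹ v))
    constructor
    · intro h0
      apply hv.ne
      apply rzero (RR e) m0⁻¹
      have h3 := rzero (RR e) gs h0
      have h4 := congrArg (fun w => ((x⁻¹ : GL (Fin 10) F) : Matrix (Fin 10) (Fin 10) F) *ᵥ w) h3
      rw [Matrix.mulVec_mulVec, ← Units.val_mul, inv_mul_cancel, Units.val_one, Matrix.one_mulVec,
        Matrix.mulVec_zero] at h4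
      exact h4
    · rw [MonoidHom.comp_apply, key, hv.i2]
    · rw [MonoidHom.comp_apply, key, hv.i3]
    · rw [MonoidHom.comp_apply, key, hv.s]
    · rw [MonoidHom.comp_apply, key, hv.r]
    · rw [MonoidHom.comp_apply, key, hv.e2, map_neg, Matrix.mulVec_neg, map_neg]

/-- `beta` as an automorphism -/
def betaE : MulAut Spor.M12 := MulAut.conj gs * Cfsg.Agent.OddHalf.Table.OutMTwelve.al

theorem betaE_apply (m : Spor.M12) : betaE m = beta m := rfl

theorem kill_odd [Finite F] (h : Cx p Q H P) (e : P ≃* Spor.M12) (h2 : (2 : F) ≠ 0)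
    (hS : Nonempty (Soc P ≃* Spor.M12)) : False := by
  rcases exists_fixd (RR e) h2 (irr_RR h.core e) finrank_ten with ⟨v, hv⟩ | ⟨v, hv⟩
  · exact kill_odd_aux h e h2 hv hS
  · have h1 : (RR e).comp beta = RR (e.trans betaE.symm) := by
      apply MonoidHom.ext
      intro m
      rfl
    rw [h1] at hv
    exact kill_odd_aux h _ h2 hv hS

end Cfsg.Agent.H36.M12
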