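import Cfsg.Agent.H36.M12.Kill

/-!
# `M₁₂` is no residual core in `Ω₁₀^±(q)`, `q` even (helper36)
-/

set_option autoImplicit false
set_option maxRecDepth 100000

namespace Cfsg.Agent.H36.M12

open Cfsg Cfsg.Geo Module Cfsg.Agent.H915.LD Cfsg.Agent.H933.O10 Cfsg.Agent.CoThreeStd.MTwelve
open Cfsg.Agent.SporadicStructure.M11InvPerms Cfsg.Agent.CoThreeStd.OutAut Cfsg.Agent.H932.Mt
open Cfsg.Agent.ClassicalGeometry
open scoped Matrix

local notation "αα" => Cfsg.Agent.CoThreeStd.OutAut.alpha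

universe u

variable {F : Type u} [Field F] {p : ℕ} {Q : (Fin 10 → F) → F} {H P : Subgroup (GL (Fin 10) F)}

/-- the dimension of the fixed space of an involution inverting a fixed-point-free element -/
theorem fix_five (c2 : (2 : F) = 0) {V : Type*} [AddCommGroup V] [Module F V] [FiniteDimensional F V]
    (hd : finrank F V = 10) (A Y Z : Module.End F V) (hA : ∀ v, A (A v) = v) (hZY : ∀ v, Z (Y v) = v)
    (hAY : ∀ v, A (Y v) = Z (A v)) (h11 : ∀ v, Y (Y (Y (Y (Y (Y (Y (Y (Y (Y (Y v)))))))))) = v)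
    (h0 : ∀ v, Y v = v → v = 0) : finrank F (es A 1) = 5 := by
  have hinj : ∀ v, Y v = 0 → v = 0 := fun v hv => by rw [← hZY v, hv, map_zero]
  have h1 : finrank F (es A 1) ≤ finrank F (es (A * Y) 1) := by
    refine le_of_inj (Y * Y * Y * Y * Y) ?_ ?_
    · intro v hv
      rw [mem_es_one] at hv ⊢
      simp only [Module.End.mul_apply]
      -- `A Y⁶ v = Z⁶ A v = Z⁶ v = Y⁵ v`
      rw [hAY, hAY, hAY, hAY, hAY, hAY, hv]
      nth_rewrite 1 [← h11 v]
      rw [hZY, hZY, hZY, hZY, hZY, hZY]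
    · intro v _ hv
      simp only [Module.End.mul_apply] at hv
      exact hinj _ (hinj _ (hinj _ (hinj _ (hinj _ hv))))
  have h2 : es A 1 ⊓ es (A * Y) 1 = ⊥ := by
    rw [eq_bot_iff]
    rintro v ⟨hv, hv'⟩
    rw [SetLike.mem_coe, mem_es_one] at hv hv'
    rw [Module.End.mul_apply] at hv'
    rw [Submodule.mem_bot]
    apply h0
    have h3 := hA (Y v)
    rw [hv', hv] at h3
    exact h3.symm
  have h3 := Submodule.finrank_sup_add_finrank_inf_eq (es A 1) (es (A * Y) 1)
  rw [h2, finrank_bot] at h3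
  have h4 := Submodule.finrank_le (es A 1 ⊔ es (A * Y) 1)
  have h5 : LinearMap.range (A - 1) ≤ es A 1 := by
    rintro _ ⟨v, rfl⟩
    rw [mem_es_one, LinearMap.sub_apply, map_sub, hA, Module.End.one_apply]
    have h6 : v - A v - (A v - v) = (2 : F) • (v - A v) := by rw [two_smul]; abel
    rw [← sub_eq_zero, h6, c2, zero_smul]
  have h6 : LinearMap.ker (A - 1) = es A 1 := by
    ext v
    rw [LinearMap.mem_ker, LinearMap.sub_apply, sub_eq_zero, Module.End.one_apply, mem_es_one]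
  have h7 := LinearMap.finrank_range_add_finrank_ker (A - 1)
  rw [h6] at h7
  have h8 := Submodule.finrank_mono h5
  omega

theorem no_outer_two [Finite F] (h : Cx p Q H P) (e : P ≃* Spor.M12) (c2 : (2 : F) = 0) {x : GL (Fin 10) F} (hx : x ∈ H)
    {m0 : Spor.M12} (hm : ∀ m, th e h.hc.normal hx m = αα (m0 * m * m0⁻¹)) : False := by
  -- the normalised element
  obtain ⟨x', hx', hc⟩ : ∃ x' ∈ H, ∀ m, x' * (e.symm m : GL (Fin 10) F) * x'⁻¹ = (e.symm (αα m) : GL (Fin 10) F) := by
    refine ⟨x * (e.symm m0 : GL (Fin 10) F)⁻¹, H.mul_mem hx (H.inv_mem (h.hc.le (e.symm m0).2)), fun m => ?_⟩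
    have h1 := th_coe e h.hc.normal hx (m0⁻¹ * m * m0)
    rw [hm, show m0 * (m0⁻¹ * m * m0) * m0⁻¹ = m by group] at h1
    rw [h1]
    simp only [map_mul, map_inv, Subgroup.coe_mul, Subgroup.coe_inv]
    group
  have hx2 : x' * x' = 1 := by
    obtain ⟨c, hc2, hc1⟩ := cent_H h (y := x' * x') (H.mul_mem hx' hx') (by
      intro g hg
      have h1 := hc (e ⟨g, hg⟩)
      rw [MulEquiv.symm_apply_apply] at h1
      have h2 := hc (αα (e ⟨g, hg⟩))
      rw [alpha_alpha, MulEquiv.symm_apply_apply, ← h1] at h2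
      change x' * (x' * g * x'⁻¹) * x'⁻¹ = g at h2
      refine Eq.trans ?_ h2
      group)
    have h3 : c = 1 := by
      have h4 : (c - 1) * (c - 1) = 0 := by linear_combination hc2 - (c - 1) * c2
      exact sub_eq_zero.1 (mul_self_eq_zero.1 h4)
    apply Units.ext
    rw [hc1, h3, one_smul]
    rfl
  set k : GL (Fin 10) F := (e.symm me : GL (Fin 10) F) with hk
  set y : GL (Fin 10) F := (e.symm xe : GL (Fin 10) F) with hy
  have hτ : x' * k ∈ H := H.mul_mem hx' (h.hc.le (e.symm me).2)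
  have t1 : x' * k * (x' * k) = 1 := by
    have h1 := hc me
    have h2 : (e.symm (αα me) : GL (Fin 10) F) * k = 1 := by
      rw [hk, ← Subgroup.coe_mul, ← map_mul, al_me, map_one]; rfl
    rw [← h1] at h2
    have h3 : x'⁻¹ = x' := inv_eq_of_mul_eq_one_left hx2
    rw [h3] at h2
    rw [← h2]
    simp only [mul_assoc]
    rfl
  have t2 : x' * k * y = y⁻¹ * (x' * k) := by
    have h1 := hc (me * xe * me⁻¹)
    have h2 : αα (me * xe * me⁻¹) = xe⁻¹ := eq_inv_of_mul_eq_one_left al_xe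
    rw [h2] at h1
    simp only [map_mul, map_inv, Subgroup.coe_mul, Subgroup.coe_inv] at h1
    rw [← hk, ← hy] at h1
    rw [← h1]
    group
  have y11 : y ^ 11 = 1 := by rw [hy, ← Subgroup.coe_pow, ← map_pow, xe_pow, map_one]; rfl
  have y1 : y ≠ 1 := by
    intro h1
    apply xe_ne
    have h2 : e.symm xe = 1 := Subtype.ext h1
    exact (map_eq_one_iff e.symm e.symm.injective).1 h2
  have yc : (e.symm ye : GL (Fin 10) F) * y * (e.symm ye : GL (Fin 10) F)⁻¹ = y ^ 3 := by
    rw [mul_inv_eq_iff_eq_mul, hy, ← Subgroup.coe_pow, ← map_pow, ← Subgroup.coe_mul, ← Subgroup.coe_mul, ← map_mul,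
      ← map_mul, yx]
  have nofix : ∀ v : Fin 10 → F, (y : Matrix (Fin 10) (Fin 10) F) *ᵥ v = v → v = 0 := by
    intro v hv
    refine no_fixed_eleven (by rw [Fintype.card_fin]) ?_ h.hQ (h.le_omega (e.symm xe).2) y11 y1 yc v hv
    intro h0
    exact one_ne_zero (α := F) (by linear_combination h0 - 5 * c2)
  -- the fixed space
  have mul : ∀ (a b : GL (Fin 10) F) (v : Fin 10 → F), ((a * b : GL (Fin 10) F) : Matrix (Fin 10) (Fin 10) F) *ᵥ v =
      (a : Matrix (Fin 10) (Fin 10) F) *ᵥ ((b : Matrix (Fin 10) (Fin 10) F) *ᵥ v) := fun a b v => by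
    rw [Units.val_mul, Matrix.mulVec_mulVec]
  have one : ∀ v : Fin 10 → F, ((1 : GL (Fin 10) F) : Matrix (Fin 10) (Fin 10) F) *ᵥ v = v := fun v => by
    rw [Units.val_one, Matrix.one_mulVec]
  have h5 := fix_five c2 finrank_ten (Matrix.mulVecLin ((x' * k : GL (Fin 10) F) : Matrix (Fin 10) (Fin 10) F))
    (Matrix.mulVecLin (y : Matrix (Fin 10) (Fin 10) F)) (Matrix.mulVecLin ((y⁻¹ : GL (Fin 10) F) : Matrix (Fin 10) (Fin 10) F))
    (fun v => by rw [Matrix.mulVecLin_apply, Matrix.mulVecLin_apply, ← mul, t1, one])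
    (fun v => by rw [Matrix.mulVecLin_apply, Matrix.mulVecLin_apply, ← mul, inv_mul_cancel, one])
    (fun v => by rw [Matrix.mulVecLin_apply, Matrix.mulVecLin_apply, Matrix.mulVecLin_apply, Matrix.mulVecLin_apply,
      ← mul, t2, mul])
    (fun v => by
      simp only [Matrix.mulVecLin_apply, ← mul]
      have h6 : y * (y * (y * (y * (y * (y * (y * (y * (y * (y * y))))))))) = y ^ 11 := by
        simp only [pow_succ, pow_zero, one_mul, mul_assoc]
      rw [h6, y11, one])
    nofix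
  -- the Dickson invariant
  obtain ⟨R, hR, -⟩ := H883.Bridge.exists_quadraticForm h.hQ
  have hτΩ := h.hH.1.le hτ
  subst hR
  obtain ⟨g, hg, hgτ⟩ := hτΩ
  have hnd : (QuadraticMap.polarBilin R).Nondegenerate := by
    have hl : ∀ x, (∀ y, QuadraticMap.polarBilin R x y = 0) → x = 0 := by
      intro x hx
      by_contra hx0
      obtain ⟨-, z, hz⟩ := h.hQ.nondegenerate x hx0
      exact hz (hx z)
    exact ⟨hl, fun y hy => hl y fun x => by
      have := hy x
      rw [QuadraticMap.polarBilin_apply_apply] at this ⊢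
      rwa [QuadraticMap.polar_comm]⟩
  have h6 := OrthDickson.dsign_eq_one_of_mem_commutator R hnd (Or.inr (by rw [Fintype.card_fin]; norm_num)) g hg
  rw [OrthDickson.dsign_def] at h6
  have h7 : OrthCharTwo.fixSp g = es (Matrix.mulVecLin ((x' * k : GL (Fin 10) F) : Matrix (Fin 10) (Fin 10) F)) 1 := by
    ext v
    rw [OrthCharTwo.mem_fixSp, mem_es_one, OrthCharTwo.act_def, Matrix.mulVecLin_apply, ← hgτ]
    rfl
  rw [h7, h5, Fintype.card_fin] at h6
  exact absurd h6 (by decide)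

/-- **`M₁₂` is not a residual core in `Ω₁₀^±(q)`.** -/
theorem o10_m12 [Finite F] (h : Cx p Q H P) (e : Spor.IsoM12 (Soc P)) : False := by
  rcases H6.M11.m12_cases h.core e with ⟨⟨e'⟩⟩ | ⟨-, -, h2, z, hz⟩
  · by_cases c2 : (2 : F) = 0
    · obtain ⟨f, hf, hnd, hs⟩ := exists_form h
      obtain ⟨W, hW⟩ := exists_fam_two (RR e') c2 (irr_RR h.core e') finrank_ten f
        ⟨hnd, fun y hy => hnd y fun x => by rw [hs]; exact hy x⟩ (fun g x y => by
          rw [hf, hf, RR_apply, RR_apply]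
          exact polar_mulVec (h.le_omega (e'.symm g).2) x y)
      refine final h e' hW (fun x hx => ?_) e
      rcases th_cases (th e' h.hc.normal hx) with h1 | ⟨m0, hm0⟩
      · exact h1
      · exact (no_outer_two h e' c2 hx hm0).elim
    · exact kill_odd h e' c2 e
  · obtain ⟨e'⟩ := e
    exact no_double h e' h2 hz

end Cfsg.Agent.H36.M12
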