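import Cfsg.Agent.H932.MtLin

/-!
# Three commuting involutions: joint eigenspaces (helper36)

`seven` : if the seven involutions of an elementary abelian group of order 8 all have a `-1`-eigenspace of dimension 4 on a
space of dimension 10, every nontrivial joint eigenspace has dimension one.
-/

set_option autoImplicit false
set_option linter.unusedSectionVars false

namespace Cfsg.Agent.H36.M12

open Module Cfsg.Agent.H932.Mt

variable {F V : Type*} [Field F] [AddCommGroup V] [Module F V] [FiniteDimensional F V]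

/-- the eigenspaces of an involution -/
theorem split_one (h2 : (2 : F) ≠ 0) (W : Submodule F V) (A : Module.End F V) (hA : ∀ v ∈ W, A v ∈ W)
    (hA2 : ∀ v, A (A v) = v) :
    finrank F W = finrank F (W ⊓ es A 1 : Submodule F V) + finrank F (W ⊓ es A (-1) : Submodule F V) :=
  split W A (c := 1) (by rwa [mul_one]) hA (fun v _ => by rw [hA2, mul_one, one_smul])

theorem es_stab {A B : Module.End F V} (h : ∀ v, A (B v) = B (A v)) {c : F} {v : V} (hv : v ∈ es A c) : B v ∈ es A c := by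
  rw [mem_es] at hv ⊢
  rw [h, hv, map_smul]

theorem sgn_of_cases {a : F} (ha : a = 1 ∨ a = -1) : a * a = 1 := by
  rcases ha with rfl | rfl <;> ring

variable {A B C : Module.End F V}

/-- the joint eigenspaces -/
def J (A B C : Module.End F V) (a b c : F) : Submodule F V := es A a ⊓ es B b ⊓ es C c

theorem mem_J {a b c : F} {v : V} : v ∈ J A B C a b c ↔ A v = a • v ∧ B v = b • v ∧ C v = c • v := by
  rw [J, Submodule.mem_inf, Submodule.mem_inf, mem_es, mem_es, mem_es, and_assoc]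

/-- decomposition of a stable subspace into joint eigenspaces -/
theorem tri_split (h2 : (2 : F) ≠ 0) (W : Submodule F V)
    (hA : ∀ v ∈ W, A v ∈ W) (hB : ∀ v ∈ W, B v ∈ W) (hC : ∀ v ∈ W, C v ∈ W)
    (hA2 : ∀ v, A (A v) = v) (hB2 : ∀ v, B (B v) = v) (hC2 : ∀ v, C (C v) = v)
    (hAB : ∀ v, A (B v) = B (A v)) (hAC : ∀ v, A (C v) = C (A v)) (hBC : ∀ v, B (C v) = C (B v)) :
    finrank F W =
      finrank F (W ⊓ J A B C 1 1 1 : Submodule F V) + finrank F (W ⊓ J A B C 1 1 (-1) : Submodule F V) +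
      (finrank F (W ⊓ J A B C 1 (-1) 1 : Submodule F V) + finrank F (W ⊓ J A B C 1 (-1) (-1) : Submodule F V)) +
      ((finrank F (W ⊓ J A B C (-1) 1 1 : Submodule F V) + finrank F (W ⊓ J A B C (-1) 1 (-1) : Submodule F V)) +
      (finrank F (W ⊓ J A B C (-1) (-1) 1 : Submodule F V) + finrank F (W ⊓ J A B C (-1) (-1) (-1) : Submodule F V))) := by
  have key : ∀ a b c : F, W ⊓ J A B C a b c = W ⊓ es A a ⊓ es B b ⊓ es C c := by
    intro a b c
    rw [J, inf_assoc, inf_assoc, inf_assoc]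
  have s3 : ∀ a b : F, finrank F (W ⊓ es A a ⊓ es B b : Submodule F V) =
      finrank F (W ⊓ J A B C a b 1 : Submodule F V) + finrank F (W ⊓ J A B C a b (-1) : Submodule F V) := by
    intro a b
    rw [key, key]
    refine split_one h2 _ C ?_ hC2
    rintro v ⟨⟨h1, h2⟩, h3⟩
    exact ⟨⟨hC v h1, es_stab hAC h2⟩, es_stab hBC h3⟩
  have s2 : ∀ a : F, finrank F (W ⊓ es A a : Submodule F V) =
      finrank F (W ⊓ es A a ⊓ es B 1 : Submodule F V) + finrank F (W ⊓ es A a ⊓ es B (-1) : Submodule F V) := by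
    intro a
    refine split_one h2 _ B ?_ hB2
    rintro v ⟨h1, h2⟩
    exact ⟨hB v h1, es_stab hAB h2⟩
  rw [split_one h2 W A hA hA2, s2, s2, s3, s3, s3, s3]

/-- an operator acting as `δ` on `U`, its `-1`-eigenspace meets `U` in `U` or in zero -/
theorem inf_J {D : Module.End F V} {U : Submodule F V} {δ : F} (h : ∀ v ∈ U, D v = δ • v) :
    (δ = -1 → es D (-1) ⊓ U = U) ∧ (δ = 1 → (2 : F) ≠ 0 → es D (-1) ⊓ U = ⊥) := by
  constructor
  · rintro rfl
    exact inf_eq_right.2 fun v hv => mem_es.2 (h v hv)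
  · rintro rfl h2
    rw [eq_bot_iff]
    rintro v ⟨hv1, hv2⟩
    have h3 := mem_es.1 hv1
    rw [h v hv2, one_smul, neg_one_smul] at h3
    have h4 : (2 : F) • v = 0 := by
      rw [two_smul]
      nth_rewrite 1 [h3]
      exact neg_add_cancel v
    exact (smul_eq_zero.1 h4).resolve_left h2

/-- **Seven involutions.** -/
theorem seven (h2 : (2 : F) ≠ 0) (hd : finrank F V = 10)
    (hA2 : ∀ v, A (A v) = v) (hB2 : ∀ v, B (B v) = v) (hC2 : ∀ v, C (C v) = v)
    (hAB : ∀ v, A (B v) = B (A v)) (hAC : ∀ v, A (C v) = C (A v)) (hBC : ∀ v, B (C v) = C (B v))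
    (n1 : finrank F (es A (-1)) = 4) (n2 : finrank F (es B (-1)) = 4) (n3 : finrank F (es C (-1)) = 4)
    (n12 : finrank F (es (A * B) (-1)) = 4) (n13 : finrank F (es (A * C) (-1)) = 4)
    (n23 : finrank F (es (B * C) (-1)) = 4) (n123 : finrank F (es (A * B * C) (-1)) = 4) :
    finrank F (J A B C 1 1 (-1)) = 1 ∧ finrank F (J A B C 1 (-1) 1) = 1 := by
  have tot := tri_split (C := C) h2 (⊤ : Submodule F V) (fun _ _ => trivial) (fun _ _ => trivial) (fun _ _ => trivial)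
    hA2 hB2 hC2 hAB hAC hBC
  simp only [top_inf_eq, finrank_top] at tot
  have ev : ∀ D : Module.End F V, (∀ v, D (A v) = A (D v)) → (∀ v, D (B v) = B (D v)) → (∀ v, D (C v) = C (D v)) →
      finrank F (es D (-1)) =
      finrank F (es D (-1) ⊓ J A B C 1 1 1 : Submodule F V) + finrank F (es D (-1) ⊓ J A B C 1 1 (-1) : Submodule F V) +
      (finrank F (es D (-1) ⊓ J A B C 1 (-1) 1 : Submodule F V) + finrank F (es D (-1) ⊓ J A B C 1 (-1) (-1) : Submodule F V)) +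
      ((finrank F (es D (-1) ⊓ J A B C (-1) 1 1 : Submodule F V) +
        finrank F (es D (-1) ⊓ J A B C (-1) 1 (-1) : Submodule F V)) +
      (finrank F (es D (-1) ⊓ J A B C (-1) (-1) 1 : Submodule F V) +
        finrank F (es D (-1) ⊓ J A B C (-1) (-1) (-1) : Submodule F V))) := fun D dA dB dC =>
    tri_split h2 _ (fun v hv => es_stab dA hv) (fun v hv => es_stab dB hv) (fun v hv => es_stab dC hv)
      hA2 hB2 hC2 hAB hAC hBC
  -- evaluation of one term
  have tm : ∀ (D : Module.End F V) (a b c δ : F), (∀ v, A v = a • v → B v = b • v → C v = c • v → D v = δ • v) →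
      (δ = -1 → finrank F (es D (-1) ⊓ J A B C a b c : Submodule F V) = finrank F (J A B C a b c)) ∧
      (δ = 1 → finrank F (es D (-1) ⊓ J A B C a b c : Submodule F V) = 0) := by
    intro D a b c δ h
    have h' : ∀ v ∈ J A B C a b c, D v = δ • v := fun v hv => h v (mem_J.1 hv).1 (mem_J.1 hv).2.1 (mem_J.1 hv).2.2
    exact ⟨fun e => by rw [(inf_J h').1 e], fun e => by rw [(inf_J h').2 e h2, finrank_bot]⟩
  have e1 := ev A (fun _ => rfl) (fun v => hAB v) (fun v => hAC v)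
  have e2 := ev B (fun v => (hAB v).symm) (fun _ => rfl) (fun v => hBC v)
  have e3 := ev C (fun v => (hAC v).symm) (fun v => (hBC v).symm) (fun _ => rfl)
  have e12 := ev (A * B) (fun v => by simp only [Module.End.mul_apply]; rw [← hAB]) (fun v => by
    simp only [Module.End.mul_apply]; rw [hAB]) (fun v => by simp only [Module.End.mul_apply]; rw [hBC, hAC])
  have e13 := ev (A * C) (fun v => by simp only [Module.End.mul_apply]; rw [← hAC]) (fun v => by
    simp only [Module.End.mul_apply]; rw [← hBC, hAB]) (fun v => by simp only [Module.End.mul_apply]; rw [hAC])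
  have e23 := ev (B * C) (fun v => by simp only [Module.End.mul_apply]; rw [← hAC, ← hAB]) (fun v => by
    simp only [Module.End.mul_apply]; rw [← hBC]) (fun v => by simp only [Module.End.mul_apply]; rw [hBC])
  have e123 := ev (A * B * C) (fun v => by simp only [Module.End.mul_apply]; rw [← hAC, ← hAB]) (fun v => by
    simp only [Module.End.mul_apply]; rw [← hBC, hAB]) (fun v => by simp only [Module.End.mul_apply]; rw [hBC, hAC])
  -- the seven evaluations
  have tA : ∀ a b c : F, ∀ v, A v = a • v → B v = b • v → C v = c • v → A v = a • v := fun _ _ _ _ h _ _ => h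
  have tB : ∀ a b c : F, ∀ v, A v = a • v → B v = b • v → C v = c • v → B v = b • v := fun _ _ _ _ _ h _ => h
  have tC : ∀ a b c : F, ∀ v, A v = a • v → B v = b • v → C v = c • v → C v = c • v := fun _ _ _ _ _ _ h => h
  have tAB : ∀ a b c : F, ∀ v, A v = a • v → B v = b • v → C v = c • v → (A * B) v = (a * b) • v := by
    intro a b c v h1 h2 _
    rw [Module.End.mul_apply, h2, map_smul, h1, smul_smul, mul_comm]
  have tAC : ∀ a b c : F, ∀ v, A v = a • v → B v = b • v → C v = c • v → (A * C) v = (a * c) • v := by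
    intro a b c v h1 _ h2
    rw [Module.End.mul_apply, h2, map_smul, h1, smul_smul, mul_comm]
  have tBC : ∀ a b c : F, ∀ v, A v = a • v → B v = b • v → C v = c • v → (B * C) v = (b * c) • v := by
    intro a b c v _ h1 h2
    rw [Module.End.mul_apply, h2, map_smul, h1, smul_smul, mul_comm]
  have tABC : ∀ a b c : F, ∀ v, A v = a • v → B v = b • v → C v = c • v → (A * B * C) v = (a * b * c) • v := by
    intro a b c v h1 h2 h3
    rw [Module.End.mul_apply, Module.End.mul_apply, h3, map_smul, map_smul, h2, map_smul, h1, smul_smul, smul_smul]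
    congr 1
    ring
  have p1 : ∀ D a b c δ h, δ = (1 : F) → finrank F (es D (-1) ⊓ J A B C a b c : Submodule F V) = 0 :=
    fun D a b c δ h e => (tm D a b c δ h).2 e
  have m1 : ∀ D a b c δ h, δ = (-1 : F) →
      finrank F (es D (-1) ⊓ J A B C a b c : Submodule F V) = finrank F (J A B C a b c) :=
    fun D a b c δ h e => (tm D a b c δ h).1 e
  rw [n1, p1 A 1 1 1 1 (tA _ _ _) rfl, p1 A 1 1 (-1) 1 (tA _ _ _) rfl, p1 A 1 (-1) 1 1 (tA _ _ _) rfl,
    p1 A 1 (-1) (-1) 1 (tA _ _ _) rfl, m1 A (-1) 1 1 (-1) (tA _ _ _) rfl, m1 A (-1) 1 (-1) (-1) (tA _ _ _) rfl,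
    m1 A (-1) (-1) 1 (-1) (tA _ _ _) rfl, m1 A (-1) (-1) (-1) (-1) (tA _ _ _) rfl] at e1
  rw [n2, p1 B 1 1 1 1 (tB _ _ _) rfl, p1 B 1 1 (-1) 1 (tB _ _ _) rfl, m1 B 1 (-1) 1 (-1) (tB _ _ _) rfl,
    m1 B 1 (-1) (-1) (-1) (tB _ _ _) rfl, p1 B (-1) 1 1 1 (tB _ _ _) rfl, p1 B (-1) 1 (-1) 1 (tB _ _ _) rfl,
    m1 B (-1) (-1) 1 (-1) (tB _ _ _) rfl, m1 B (-1) (-1) (-1) (-1) (tB _ _ _) rfl] at e2
  rw [n3, p1 C 1 1 1 1 (tC _ _ _) rfl, m1 C 1 1 (-1) (-1) (tC _ _ _) rfl, p1 C 1 (-1) 1 1 (tC _ _ _) rfl,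
    m1 C 1 (-1) (-1) (-1) (tC _ _ _) rfl, p1 C (-1) 1 1 1 (tC _ _ _) rfl, m1 C (-1) 1 (-1) (-1) (tC _ _ _) rfl,
    p1 C (-1) (-1) 1 1 (tC _ _ _) rfl, m1 C (-1) (-1) (-1) (-1) (tC _ _ _) rfl] at e3
  rw [n12, p1 _ 1 1 1 _ (tAB _ _ _) (by ring), p1 _ 1 1 (-1) _ (tAB _ _ _) (by ring), m1 _ 1 (-1) 1 _ (tAB _ _ _) (by ring),
    m1 _ 1 (-1) (-1) _ (tAB _ _ _) (by ring), m1 _ (-1) 1 1 _ (tAB _ _ _) (by ring), m1 _ (-1) 1 (-1) _ (tAB _ _ _) (by ring),
    p1 _ (-1) (-1) 1 _ (tAB _ _ _) (by ring), p1 _ (-1) (-1) (-1) _ (tAB _ _ _) (by ring)] at e12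
  rw [n13, p1 _ 1 1 1 _ (tAC _ _ _) (by ring), m1 _ 1 1 (-1) _ (tAC _ _ _) (by ring), p1 _ 1 (-1) 1 _ (tAC _ _ _) (by ring),
    m1 _ 1 (-1) (-1) _ (tAC _ _ _) (by ring), m1 _ (-1) 1 1 _ (tAC _ _ _) (by ring), p1 _ (-1) 1 (-1) _ (tAC _ _ _) (by ring),
    m1 _ (-1) (-1) 1 _ (tAC _ _ _) (by ring), p1 _ (-1) (-1) (-1) _ (tAC _ _ _) (by ring)] at e13
  rw [n23, p1 _ 1 1 1 _ (tBC _ _ _) (by ring), m1 _ 1 1 (-1) _ (tBC _ _ _) (by ring), m1 _ 1 (-1) 1 _ (tBC _ _ _) (by ring),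
    p1 _ 1 (-1) (-1) _ (tBC _ _ _) (by ring), p1 _ (-1) 1 1 _ (tBC _ _ _) (by ring), m1 _ (-1) 1 (-1) _ (tBC _ _ _) (by ring),
    m1 _ (-1) (-1) 1 _ (tBC _ _ _) (by ring), p1 _ (-1) (-1) (-1) _ (tBC _ _ _) (by ring)] at e23
  rw [n123, p1 _ 1 1 1 _ (tABC _ _ _) (by ring), m1 _ 1 1 (-1) _ (tABC _ _ _) (by ring),
    m1 _ 1 (-1) 1 _ (tABC _ _ _) (by ring), p1 _ 1 (-1) (-1) _ (tABC _ _ _) (by ring),
    m1 _ (-1) 1 1 _ (tABC _ _ _) (by ring), p1 _ (-1) 1 (-1) _ (tABC _ _ _) (by ring),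
    p1 _ (-1) (-1) 1 _ (tABC _ _ _) (by ring), m1 _ (-1) (-1) (-1) _ (tABC _ _ _) (by ring)] at e123
  rw [hd] at tot
  constructor <;> omega

end Cfsg.Agent.H36.M12
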