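import Cfsg.Agent.H36.M12.Odd
import Cfsg.Agent.H6.M11.Stage12

/-!
# `M₁₂` in odd characteristic has degree at least seven (helper36)
-/

set_option autoImplicit false
set_option linter.unusedSectionVars false
set_option maxRecDepth 100000

namespace Cfsg.Agent.H36.M12

open Cfsg Cfsg.Geo Module Cfsg.Agent.H932.Mt Cfsg.Agent.CoThreeStd.MTwelve Cfsg.Agent.H915.LD
open scoped Matrix

section

variable {F V : Type*} [Field F] [AddCommGroup V] [Module F V] [FiniteDimensional F V] {A B C : Module.End F V}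

/-- **Seven involutions need seven dimensions.** -/
theorem seven_le (h2 : (2 : F) ≠ 0)
    (hA2 : ∀ v, A (A v) = v) (hB2 : ∀ v, B (B v) = v) (hC2 : ∀ v, C (C v) = v)
    (hAB : ∀ v, A (B v) = B (A v)) (hAC : ∀ v, A (C v) = C (A v)) (hBC : ∀ v, B (C v) = C (B v))
    (n1 : finrank F (es A (-1)) = 4) (n2 : finrank F (es B (-1)) = 4) (n3 : finrank F (es C (-1)) = 4)
    (n12 : finrank F (es (A * B) (-1)) = 4) (n13 : finrank F (es (A * C) (-1)) = 4)
    (n23 : finrank F (es (B * C) (-1)) = 4) (n123 : finrank F (es (A * B * C) (-1)) = 4) :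
    7 ≤ finrank F V := by
  have tot := tri_split (C := C) h2 (⊤ : Submodule F V) (fun _ _ => trivial) (fun _ _ => trivial) (fun _ _ => trivial)
    hA2 hB2 hC2 hAB hAC hBC
  rw [top_inf_eq, top_inf_eq, top_inf_eq, top_inf_eq, top_inf_eq, top_inf_eq, top_inf_eq, top_inf_eq, finrank_top] at tot
  have ev : ∀ D : Module.End F V, (∀ v, D (A v) = A (D v)) → (∀ v, D (B v) = B (D v)) → (∀ v, D (C v) = C (D v)) →
      finrank F (es D (-1)) =
      finrank F (es D (-1) ⊓ J A B C 1 1 1 : Submodule F V) + finrank F (es D (-1) ⊓ J A B C 1 1 (-1) : Submodule F V) +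
      (finrank F (es D (-1) ⊓ J A B C 1 (-1) 1 : Submodule F V) + finrank F (es D (-1) ⊓ J A B C 1 (-1) (-1) : Submodule F V)) +
      ((finrank F (es D (-1) ⊓ J A B C (-1) 1 1 : Submodule F V) +
        finrank F (es D (-1) ⊓ J A B C (-1) 1 (-1) : Submodule F V)) +
      (finrank F (es D (-1) ⊓ J A B C (-1) (-1) 1 : Submodule F V) +
        finrank F (es D (-1) ⊓ J A B C (-1) (-1) (-1) : Submodule F V))) := fun D dA dB dC =>
    tri_split h2 _ (fun v hv => es_stab dA hv) (fun v hv => es_stab dB hv) (fun v hv => es_stab dC hv)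
      hA2 hB2 hC2 hAB hAC hBC
  -- evaluation of one term
  have tm : ∀ (D : Module.End F V) (a b c δ : F), (∀ v, A v = a • v → B v = b • v → C v = c • v → D v = δ • v) →
      (δ = -1 → finrank F (es D (-1) ⊓ J A B C a b c : Submodule F V) = finrank F (J A B C a b c)) ∧
      (δ = 1 → finrank F (es D (-1) ⊓ J A B C a b c : Submodule F V) = 0) := by
    intro D a b c δ h
    have h' : ∀ v ∈ J A B C a b c, D v = δ • v := fun v hv => h v (mem_J.1 hv).1 (mem_J.1 hv).2.1 (mem_J.1 hv).2.2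
    exact ⟨fun e => by rw [(inf_J h').1 e], fun e => by rw [(inf_J h').2 e h2, finrank_bot]⟩
  have e1 := ev A (fun _ => rfl) (fun v => hAB v) (fun v => hAC v)
  have e2 := ev B (fun v => (hAB v).symm) (fun _ => rfl) (fun v => hBC v)
  have e3 := ev C (fun v => (hAC v).symm) (fun v => (hBC v).symm) (fun _ => rfl)
  have e12 := ev (A * B) (fun v => by simp only [Module.End.mul_apply]; rw [← hAB]) (fun v => by
    simp only [Module.End.mul_apply]; rw [hAB]) (fun v => by simp only [Module.End.mul_apply]; rw [hBC, hAC])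
  have e13 := ev (A * C) (fun v => by simp only [Module.End.mul_apply]; rw [← hAC]) (fun v => by
    simp only [Module.End.mul_apply]; rw [← hBC, hAB]) (fun v => by simp only [Module.End.mul_apply]; rw [hAC])
  have e23 := ev (B * C) (fun v => by simp only [Module.End.mul_apply]; rw [← hAC, ← hAB]) (fun v => by
    simp only [Module.End.mul_apply]; rw [← hBC]) (fun v => by simp only [Module.End.mul_apply]; rw [hBC])
  have e123 := ev (A * B * C) (fun v => by simp only [Module.End.mul_apply]; rw [← hAC, ← hAB]) (fun v => by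
    simp only [Module.End.mul_apply]; rw [← hBC, hAB]) (fun v => by simp only [Module.End.mul_apply]; rw [hBC, hAC])
  -- the seven evaluations
  have tA : ∀ a b c : F, ∀ v, A v = a • v → B v = b • v → C v = c • v → A v = a • v := fun _ _ _ _ h _ _ => h
  have tB : ∀ a b c : F, ∀ v, A v = a • v → B v = b • v → C v = c • v → B v = b • v := fun _ _ _ _ _ h _ => h
  have tC : ∀ a b c : F, ∀ v, A v = a • v → B v = b • v → C v = c • v → C v = c • v := fun _ _ _ _ _ _ h => h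
  have tAB : ∀ a b c : F, ∀ v, A v = a • v → B v = b • v → C v = c • v → (A * B) v = (a * b) • v := by
    intro a b c v h1 h2 _
    rw [Module.End.mul_apply, h2, map_smul, h1, smul_smul, mul_comm]
  have tAC : ∀ a b c : F, ∀ v, A v = a • v → B v = b • v → C v = c • v → (A * C) v = (a * c) • v := by
    intro a b c v h1 _ h2
    rw [Module.End.mul_apply, h2, map_smul, h1, smul_smul, mul_comm]
  have tBC : ∀ a b c : F, ∀ v, A v = a • v → B v = b • v → C v = c • v → (B * C) v = (b * c) • v := by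
    intro a b c v _ h1 h2
    rw [Module.End.mul_apply, h2, map_smul, h1, smul_smul, mul_comm]
  have tABC : ∀ a b c : F, ∀ v, A v = a • v → B v = b • v → C v = c • v → (A * B * C) v = (a * b * c) • v := by
    intro a b c v h1 h2 h3
    rw [Module.End.mul_apply, Module.End.mul_apply, h3, map_smul, map_smul, h2, map_smul, h1, smul_smul, smul_smul]
    congr 1
    ring
  have p1 : ∀ D a b c δ h, δ = (1 : F) → finrank F (es D (-1) ⊓ J A B C a b c : Submodule F V) = 0 :=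
    fun D a b c δ h e => (tm D a b c δ h).2 e
  have m1 : ∀ D a b c δ h, δ = (-1 : F) →
      finrank F (es D (-1) ⊓ J A B C a b c : Submodule F V) = finrank F (J A B C a b c) :=
    fun D a b c δ h e => (tm D a b c δ h).1 e
  rw [n1, p1 A 1 1 1 1 (tA _ _ _) rfl, p1 A 1 1 (-1) 1 (tA _ _ _) rfl, p1 A 1 (-1) 1 1 (tA _ _ _) rfl,
    p1 A 1 (-1) (-1) 1 (tA _ _ _) rfl, m1 A (-1) 1 1 (-1) (tA _ _ _) rfl, m1 A (-1) 1 (-1) (-1) (tA _ _ _) rfl,
    m1 A (-1) (-1) 1 (-1) (tA _ _ _) rfl, m1 A (-1) (-1) (-1) (-1) (tA _ _ _) rfl] at e1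
  rw [n2, p1 B 1 1 1 1 (tB _ _ _) rfl, p1 B 1 1 (-1) 1 (tB _ _ _) rfl, m1 B 1 (-1) 1 (-1) (tB _ _ _) rfl,
    m1 B 1 (-1) (-1) (-1) (tB _ _ _) rfl, p1 B (-1) 1 1 1 (tB _ _ _) rfl, p1 B (-1) 1 (-1) 1 (tB _ _ _) rfl,
    m1 B (-1) (-1) 1 (-1) (tB _ _ _) rfl, m1 B (-1) (-1) (-1) (-1) (tB _ _ _) rfl] at e2
  rw [n3, p1 C 1 1 1 1 (tC _ _ _) rfl, m1 C 1 1 (-1) (-1) (tC _ _ _) rfl, p1 C 1 (-1) 1 1 (tC _ _ _) rfl,
    m1 C 1 (-1) (-1) (-1) (tC _ _ _) rfl, p1 C (-1) 1 1 1 (tC _ _ _) rfl, m1 C (-1) 1 (-1) (-1) (tC _ _ _) rfl,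
    p1 C (-1) (-1) 1 1 (tC _ _ _) rfl, m1 C (-1) (-1) (-1) (-1) (tC _ _ _) rfl] at e3
  rw [n12, p1 _ 1 1 1 _ (tAB _ _ _) (by ring), p1 _ 1 1 (-1) _ (tAB _ _ _) (by ring), m1 _ 1 (-1) 1 _ (tAB _ _ _) (by ring),
    m1 _ 1 (-1) (-1) _ (tAB _ _ _) (by ring), m1 _ (-1) 1 1 _ (tAB _ _ _) (by ring), m1 _ (-1) 1 (-1) _ (tAB _ _ _) (by ring),
    p1 _ (-1) (-1) 1 _ (tAB _ _ _) (by ring), p1 _ (-1) (-1) (-1) _ (tAB _ _ _) (by ring)] at e12
  rw [n13, p1 _ 1 1 1 _ (tAC _ _ _) (by ring), m1 _ 1 1 (-1) _ (tAC _ _ _) (by ring), p1 _ 1 (-1) 1 _ (tAC _ _ _) (by ring),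
    m1 _ 1 (-1) (-1) _ (tAC _ _ _) (by ring), m1 _ (-1) 1 1 _ (tAC _ _ _) (by ring), p1 _ (-1) 1 (-1) _ (tAC _ _ _) (by ring),
    m1 _ (-1) (-1) 1 _ (tAC _ _ _) (by ring), p1 _ (-1) (-1) (-1) _ (tAC _ _ _) (by ring)] at e13
  rw [n23, p1 _ 1 1 1 _ (tBC _ _ _) (by ring), m1 _ 1 1 (-1) _ (tBC _ _ _) (by ring), m1 _ 1 (-1) 1 _ (tBC _ _ _) (by ring),
    p1 _ 1 (-1) (-1) _ (tBC _ _ _) (by ring), p1 _ (-1) 1 1 _ (tBC _ _ _) (by ring), m1 _ (-1) 1 (-1) _ (tBC _ _ _) (by ring),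
    m1 _ (-1) (-1) 1 _ (tBC _ _ _) (by ring), p1 _ (-1) (-1) (-1) _ (tBC _ _ _) (by ring)] at e23
  rw [n123, p1 _ 1 1 1 _ (tABC _ _ _) (by ring), m1 _ 1 1 (-1) _ (tABC _ _ _) (by ring),
    m1 _ 1 (-1) 1 _ (tABC _ _ _) (by ring), p1 _ 1 (-1) (-1) _ (tABC _ _ _) (by ring),
    m1 _ (-1) 1 1 _ (tABC _ _ _) (by ring), p1 _ (-1) 1 (-1) _ (tABC _ _ _) (by ring),
    p1 _ (-1) (-1) 1 _ (tABC _ _ _) (by ring), m1 _ (-1) (-1) (-1) _ (tABC _ _ _) (by ring)] at e123
  omega

end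

section

variable {F V : Type*} [Field F] [AddCommGroup V] [Module F V] [FiniteDimensional F V]
variable (R : Spor.M12 →* Module.End F V)

theorem seven_le_finrank (h2 : (2 : F) ≠ 0) (hne : R gt ≠ 1) : 7 ≤ finrank F V := by
  by_contra hlt
  obtain ⟨m, hm⟩ := dim_four_dvd R h2
  have h3 := Submodule.finrank_le (es (R gt) (-1))
  have hm0 : m ≠ 0 := by
    rintro rfl
    apply hne
    have h4 : es (R gt) (-1) = ⊥ := Submodule.finrank_eq_zero.1 (by omega)
    apply LinearMap.ext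
    intro v
    have h5 : v - R gt v ∈ es (R gt) (-1) := by
      rw [mem_es_neg_one, map_sub, tt_v]; abel
    rw [h4, Submodule.mem_bot, sub_eq_zero] at h5
    exact h5.symm
  have h4 : finrank F (es (R gt) (-1)) = 4 := by omega
  have key := seven_le (A := R gt) (B := R ge2) (C := R ge3) h2 (tt_v R) (e2_v R) (e3_v R) (rel R te2) (rel R te3) (rel R e2e3)
    h4 (by rw [es_conj R conj_e2, h4]) (by rw [es_conj R conj_e3, h4])
    (by rw [← map_mul, es_conj R conj_te2, h4]) (by rw [← map_mul, es_conj R conj_te3, h4])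
    (by rw [← map_mul, es_conj R conj_e2e3, h4]) (by rw [← map_mul, ← map_mul, es_conj R conj_te2e3, h4])
  exact hlt key

end

section core

universe u

variable {ι : Type} [Fintype ι] [DecidableEq ι] {F : Type u} [Field F] {P : Subgroup (GL ι F)}

/-- the natural representation -/
def rpn (P : Subgroup (GL ι F)) : P →* Module.End F (ι → F) where
  toFun g := Matrix.mulVecLin ((g : GL ι F) : Matrix ι ι F)
  map_one' := Matrix.mulVecLin_one
  map_mul' a b := by rw [Subgroup.coe_mul, Units.val_mul, Matrix.mulVecLin_mul]; rfl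

/-- **`M₁₂ ≤ GL_n(F)`, `F` of odd characteristic: `7 ≤ n`.** -/
theorem m12_seven_le (h2 : (2 : F) ≠ 0) (e : P ≃* Spor.M12) : 7 ≤ Fintype.card ι := by
  have h1 := seven_le_finrank ((rpn P).comp e.symm.toMonoidHom) h2 (by
    intro h0
    apply t_ne_one
    have h1 : e.symm gt = 1 := by
      apply Subtype.ext
      apply Units.ext
      rw [Subgroup.coe_one, Units.val_one]
      ext i j
      have h3 := congrFun (LinearMap.congr_fun h0 (Pi.single j 1)) i
      change (((e.symm gt : GL ι F) : Matrix ι ι F) *ᵥ Pi.single j 1) i = (Pi.single j 1 : ι → F) i at h3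
      rw [Matrix.mulVec_single_one] at h3
      rw [Matrix.one_apply, ← Pi.single_apply]
      exact h3
    rw [← e.apply_symm_apply gt, h1, map_one])
  rwa [Module.finrank_fintype_fun_eq_card] at h1

/-- **`M₁₂`, characteristic three, dimension at most six: only the double cover.** -/
theorem m12_low [Finite F] (hC : Core P) (h2 : (2 : F) ≠ 0) (h : Spor.IsoM12 (Soc P)) (hn : Fintype.card ι ≤ 6) :
    Nat.card ((scalars ι F).subgroupOf P) = 2 ∧ Even (Fintype.card ι) ∧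
      ∃ z : P, ((z : GL ι F) : Matrix ι ι F) = -1 := by
  rcases H6.M11.m12_cases hC h with ⟨⟨e⟩⟩ | ⟨h3, h4, -, h5⟩
  · have := m12_seven_le h2 e
    omega
  · exact ⟨h3, h4, h5⟩

end core

end Cfsg.Agent.H36.M12
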