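import Cfsg.Agent.CoThreeStd.OutAut

/-!
# Elements of the Mathieu group of degree 12 (helper36)

`gt, ge2, ge3` generate an elementary abelian normal subgroup of the centralizer of `gt`; `gi1, gi2, gi3` generate the
pointwise stabiliser (quaternion of order 8) of the four fixed points of `gt` on the dodecad; `gi2, gi3, gs, gr` generate
the stabiliser of the points `9, 16`; `ge2` exchanges these points. `beta` is an outer automorphism centralising
`gt, ge2, ge3`.
-/

set_option autoImplicit false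

namespace Cfsg.Agent.H36.M12

open Cfsg Cfsg.Agent.CoThreeStd.MTwelve Cfsg.Agent.CoThreeStd.OutAut

/-- word of `gt` -/
def wt : List ℕ := [4,2]
/-- word of `ge2` -/
def we2 : List ℕ := [3,4,2,3]
/-- word of `ge3` -/
def we3 : List ℕ := [2,3,1,5,4,2,0,5,3,1]
/-- word of `gi2` -/
def wi2 : List ℕ := [3,1,5,4,2,0,5,3,1,0]
/-- word of `gi3` -/
def wi3 : List ℕ := [5,1,0,5,4,2,5,1,0,5,0]
/-- word of `gs` -/
def ws : List ℕ := [3,5,4,1,2,1,0,5,0]
/-- word of `gr` -/
def wr : List ℕ := [2,1,5,4,2,3,5,4,5]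
/-- word of `gu` -/
def wu : List ℕ := [1,5,3,4,3,1,5,1]

/-- the involution `t` -/
def gt : Spor.M12 := wd wt
/-- the involution `e₂` -/
def ge2 : Spor.M12 := wd we2
/-- the involution `e₃` -/
def ge3 : Spor.M12 := wd we3
/-- `i₂` of order 4 -/
def gi2 : Spor.M12 := wd wi2
/-- `i₃` of order 4 -/
def gi3 : Spor.M12 := wd wi3
/-- the involution `s` -/
def gs : Spor.M12 := wd ws
/-- `r` of order 3 -/
def gr : Spor.M12 := wd wr
/-- `u` -/
def gu : Spor.M12 := wd wu

theorem w2 {a b c d : List ℕ} (h : eqW (a ++ b) (c ++ d) = true) : wd a * wd b = wd c * wd d := by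
  rw [← wd_append, ← wd_append]; exact wd_eq h

theorem w21 {a b c : List ℕ} (h : eqW (a ++ b) c = true) : wd a * wd b = wd c := by
  rw [← wd_append]; exact wd_eq h

theorem w23 {a b c d e : List ℕ} (h : eqW (a ++ b) (c ++ d ++ e) = true) : wd a * wd b = wd c * wd d * wd e := by
  rw [← wd_append, ← wd_append, ← wd_append]; exact wd_eq h

theorem tt : gt * gt = 1 := w21 (c := []) (by decide +kernel)
theorem e2e2 : ge2 * ge2 = 1 := w21 (c := []) (by decide +kernel)
theorem e3e3 : ge3 * ge3 = 1 := w21 (c := []) (by decide +kernel)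
theorem ss : gs * gs = 1 := w21 (c := []) (by decide +kernel)
theorem i2i2 : gi2 * gi2 = gt := w21 (by decide +kernel)
theorem i3i3 : gi3 * gi3 = gt := w21 (by decide +kernel)
theorem te2 : gt * ge2 = ge2 * gt := w2 (by decide +kernel)
theorem te3 : gt * ge3 = ge3 * gt := w2 (by decide +kernel)
theorem e2e3 : ge2 * ge3 = ge3 * ge2 := w2 (by decide +kernel)
theorem ts : gt * gs = gs * gt := w2 (by decide +kernel)
theorem se2 : gs * ge2 = ge2 * gs := w2 (by decide +kernel)
theorem se3 : gs * ge3 = ge2 * ge3 * gs := w23 (by decide +kernel)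
theorem i3e2 : gi3 * ge2 = ge2 * gi3 := w2 (by decide +kernel)
theorem i3e3 : gi3 * ge3 = gt * ge3 * gi3 := w23 (by decide +kernel)
theorem i2e2 : gi2 * ge2 = gt * ge2 * gi2 := w23 (by decide +kernel)
theorem i2e3 : gi2 * ge3 = gt * ge3 * gi2 := w23 (by decide +kernel)
theorem ti3 : gt * gi3 = gi3 * gt := w2 (by decide +kernel)
theorem ti2 : gt * gi2 = gi2 * gt := w2 (by decide +kernel)
theorem i2s : gi2 * gs = gs * gi3 * gi2 := w23 (by decide +kernel)
theorem i3s : gi3 * gs = gs * gi3 * gt := w23 (by decide +kernel)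
theorem tu : gt * gu = gu * gt := w2 (by decide +kernel)
theorem e3u : ge3 * gu = gu * ge3 := w2 (by decide +kernel)
theorem e2u : ge2 * gu = gu * ge2 * ge3 := w23 (by decide +kernel)
theorem i3u : gi3 * gu = gu * gi2 := w2 (by decide +kernel)
theorem tr : gt * gr = gr * gs := w2 (by decide +kernel)
theorem sr : gs * gr = gr * gt * gs := w23 (by decide +kernel)
theorem e2r : ge2 * gr = gs * gr * ge2 := w23 (by decide +kernel)
theorem rr : gr * gr * gr = 1 := by
  show wd wr * wd wr * wd wr = wd []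
  rw [← wd_append, ← wd_append]; exact wd_eq (by decide +kernel)
theorem xr : gs * gi3 * gr * (gs * gi3) * gr = gs * gi3 * (gs * gi3) := by
  show wd ws * wd wi3 * wd wr * (wd ws * wd wi3) * wd wr = wd ws * wd wi3 * (wd ws * wd wi3)
  simp only [← wd_append]; exact wd_eq (by decide +kernel)

/-! ### conjugates of `t` -/

theorem conj_e2 : wd [3] * gt = ge2 * wd [3] := w2 (by decide +kernel)
theorem conj_te2 : wd [2,3] * gt = (gt * ge2) * wd [2,3] := w23 (by decide +kernel)
theorem conj_e3 : wd [1,5,1,5,1] * gt = ge3 * wd [1,5,1,5,1] := w2 (by decide +kernel)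
theorem conj_te3 : wd [0,5,3,1,5,3] * gt = (gt * ge3) * wd [0,5,3,1,5,3] := w23 (by decide +kernel)
theorem conj_e2e3 : wd [5,1,0,5] * gt = (ge2 * ge3) * wd [5,1,0,5] := w23 (by decide +kernel)
theorem conj_te2e3 : wd [0,5,1,0,5] * gt = (gt * ge2 * ge3) * wd [0,5,1,0,5] := by
  show wd _ * wd wt = wd wt * wd we2 * wd we3 * wd _
  simp only [← wd_append]; exact wd_eq (by decide +kernel)
theorem conj_s : wd [1,2,5,1,5,3] * gt = gs * wd [1,2,5,1,5,3] := w2 (by decide +kernel)
theorem conj_ts : wd [2,0,5,2,0,5,3] * gt = (gt * gs) * wd [2,0,5,2,0,5,3] := w23 (by decide +kernel)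
theorem conj_se2 : wd [2,5,2,0,5,3] * gt = (gs * ge2) * wd [2,5,2,0,5,3] := w23 (by decide +kernel)
theorem conj_tse2 : wd [0,5,4,0,5,2,3] * gt = (gt * gs * ge2) * wd [0,5,4,0,5,2,3] := by
  show wd _ * wd wt = wd wt * wd ws * wd we2 * wd _
  simp only [← wd_append]; exact wd_eq (by decide +kernel)

/-! ### the outer automorphism -/

/-- an outer automorphism centralising `gt, ge2, ge3` -/
def beta : Spor.M12 →* Spor.M12 := (MulAut.conj gs).toMonoidHom.comp alpha

theorem beta_wd (l : List ℕ) : beta (wd l) = wd (ws ++ (aw l ++ ws.reverse)) := by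
  show gs * alpha (wd l) * gs⁻¹ = _
  rw [alpha_wd, gs, wd_reverse, wd_append, wd_append, mul_assoc]

theorem beta_t : beta gt = gt := by
  rw [gt, beta_wd]; exact wd_eq (by decide +kernel)
theorem beta_e2 : beta ge2 = ge2 := by
  rw [ge2, beta_wd]; exact wd_eq (by decide +kernel)
theorem beta_e3 : beta ge3 = ge3 := by
  rw [ge3, beta_wd]; exact wd_eq (by decide +kernel)
theorem beta_i2 : beta gi2 = gi2 * (gt * ge2 * ge3) := by
  rw [gi2, beta_wd]
  show _ = wd wi2 * (wd wt * wd we2 * wd we3)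
  simp only [← wd_append]
  exact wd_eq (by decide +kernel)

theorem t_ne_one : gt ≠ 1 := wd_ne (l' := []) 0 (by norm_num) (by decide +kernel)

end Cfsg.Agent.H36.M12
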