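import Cfsg.Agent.H36.M12.Lin
import Cfsg.Agent.H36.M12.Words
import Cfsg.Agent.Schreier.MTwelve

/-!
# Ten-dimensional modules of `M₁₂` in odd characteristic: a vector fixed by the stabiliser of two points (helper36)
-/

set_option autoImplicit false
set_option linter.unusedSectionVars false

namespace Cfsg.Agent.H36.M12

open Module Cfsg Cfsg.Agent.H932.Mt Cfsg.Agent.CoThreeStd.MTwelve

variable {F V : Type*} [Field F] [AddCommGroup V] [Module F V]
variable (R : Spor.M12 →* Module.End F V)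

/-- irreducible -/
def Irr (R : Spor.M12 →* Module.End F V) : Prop :=
  ∀ U : Submodule F V, (∀ g, ∀ u ∈ U, R g u ∈ U) → U = ⊥ ∨ U = ⊤

/-- the vector `v` is fixed by `gi2, gi3, gs, gr` and negated by `ge2` -/
structure Fixd (v : V) : Prop where
  ne : v ≠ 0
  i2 : R gi2 v = v
  i3 : R gi3 v = v
  s : R gs v = v
  r : R gr v = v
  e2 : R ge2 v = -v

theorem rmul (g h : Spor.M12) (v : V) : R (g * h) v = R g (R h v) := by rw [map_mul]; rfl

theorem rone (v : V) : R 1 v = v := by rw [map_one]; rfl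

theorem rinv (g : Spor.M12) (v : V) : R g⁻¹ (R g v) = v := by rw [← rmul, inv_mul_cancel, rone]

theorem rinj (g : Spor.M12) {v w : V} (h : R g v = R g w) : v = w := by rw [← rinv R g v, h, rinv]

theorem rzero (g : Spor.M12) {v : V} (h : R g v = 0) : v = 0 := by rw [← rinv R g v, h, map_zero]

theorem rel {g h g' h' : Spor.M12} (e : g * h = g' * h') (v : V) : R g (R h v) = R g' (R h' v) := by
  rw [← rmul, ← rmul, e]

theorem rel3 {g h g' h' k' : Spor.M12} (e : g * h = g' * h' * k') (v : V) : R g (R h v) = R g' (R h' (R k' v)) := by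
  rw [← rmul, e, rmul, rmul]

theorem tt_v (v : V) : R gt (R gt v) = v := by rw [← rmul, tt, rone]
theorem e2_v (v : V) : R ge2 (R ge2 v) = v := by rw [← rmul, e2e2, rone]
theorem e3_v (v : V) : R ge3 (R ge3 v) = v := by rw [← rmul, e3e3, rone]
theorem s_v (v : V) : R gs (R gs v) = v := by rw [← rmul, ss, rone]

section fin

variable [FiniteDimensional F V]

theorem es_le {h g g' : Spor.M12} (e : h * g = g' * h) (c : F) : finrank F (es (R g) c) ≤ finrank F (es (R g') c) := by
  refine le_of_inj (R h) (fun v hv => ?_) (fun v _ hv => rzero R h hv)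
  rw [mem_es] at hv ⊢
  rw [← rel R e, hv, map_smul]

theorem es_conj {h g g' : Spor.M12} (e : h * g = g' * h) (c : F) : finrank F (es (R g') c) = finrank F (es (R g) c) := by
  refine le_antisymm (es_le R (h := h⁻¹) ?_ c) (es_le R e c)
  rw [eq_mul_inv_iff_mul_eq, mul_assoc, ← e, inv_mul_cancel_left]

theorem dim_four_dvd (h2 : (2 : F) ≠ 0) : ∃ m, finrank F (es (R gt) (-1)) = 4 * m := by
  have a1 := anti (es (R gt) (-1)) (R ge2) (R gi2) 1
    (fun v hv => es_stab (rel R ti2) hv) (fun v _ hv => rzero R _ hv) (fun v hv => by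
      have h1 := rel3 R i2e2 v
      have h2 := mem_es_neg_one.1 hv
      have h3 : R gt (R ge2 (R gi2 v)) = R ge2 (R gi2 (R gt v)) := by
        rw [rel R te2, rel R ti2]
      rw [h1, h3, h2, map_neg, map_neg, neg_neg])
  have s1 := split_one h2 (es (R gt) (-1)) (R ge2) (fun v hv => es_stab (rel R te2) hv) (e2_v R)
  have a2 := anti (es (R gt) (-1) ⊓ es (R ge2) 1) (R ge3) (R gi3) 1
    (fun v hv => ⟨es_stab (rel R ti3) hv.1, es_stab (rel R i3e2.symm) hv.2⟩) (fun v _ hv => rzero R _ hv)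
    (fun v hv => by
      have h1 := rel3 R i3e3 v
      have h2 := mem_es_neg_one.1 hv.1
      have h3 : R gt (R ge3 (R gi3 v)) = R ge3 (R gi3 (R gt v)) := by
        rw [rel R te3, rel R ti3]
      rw [h1, h3, h2, map_neg, map_neg, neg_neg])
  have s2 := split_one h2 (es (R gt) (-1) ⊓ es (R ge2) 1) (R ge3)
    (fun v hv => ⟨es_stab (rel R te3) hv.1, es_stab (rel R e2e3) hv.2⟩) (e3_v R)
  exact ⟨finrank F (es (R gt) (-1) ⊓ es (R ge2) 1 ⊓ es (R ge3) 1 : Submodule F V), by omega⟩

theorem not_triv (hirr : Irr R) (hd : finrank F V = 10) : R gt ≠ 1 := by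
  intro h0
  have hs := Cfsg.Agent.Schreier.MTwelve.isSimpleGroup
  have hker : ∀ g : Spor.M12, R g = 1 := by
    let N : Subgroup Spor.M12 :=
      { carrier := {g | R g = 1}
        one_mem' := map_one R
        mul_mem' := fun {a b} ha hb => by
          change R (a * b) = 1
          rw [map_mul, show R a = 1 from ha, show R b = 1 from hb, one_mul]
        inv_mem' := fun {a} ha => by
          change R a⁻¹ = 1
          have h1 : R a⁻¹ * R a = 1 := by rw [← map_mul, inv_mul_cancel, map_one]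
          rwa [show R a = 1 from ha, mul_one] at h1 }
    have hN : N.Normal := ⟨fun a ha g => by
      change R (g * a * g⁻¹) = 1
      rw [map_mul, map_mul, show R a = 1 from ha, mul_one, ← map_mul, mul_inv_cancel, map_one]⟩
    rcases hs.eq_bot_or_eq_top_of_normal N hN with h1 | h1
    · exfalso
      have h2 : gt ∈ N := h0
      rw [h1, Subgroup.mem_bot] at h2
      exact t_ne_one h2
    · intro g
      have : g ∈ N := by rw [h1]; trivial
      exact this
  have hne : Nontrivial V := Module.nontrivial_of_finrank_pos (R := F) (by rw [hd]; norm_num)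
  obtain ⟨v, hv⟩ := exists_ne (0 : V)
  rcases hirr (Submodule.span F {v}) (fun g u hu => by rw [hker g]; exact hu) with h1 | h1
  · rw [Submodule.span_singleton_eq_bot] at h1
    exact hv h1
  · have h2 := finrank_span_singleton (K := F) hv
    rw [h1, finrank_top, hd] at h2
    norm_num at h2

theorem dim_four (h2 : (2 : F) ≠ 0) (hirr : Irr R) (hd : finrank F V = 10) : finrank F (es (R gt) (-1)) = 4 := by
  obtain ⟨m, hm⟩ := dim_four_dvd R h2
  have hpos : finrank F (es (R gt) (-1)) ≠ 0 := by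
    intro h0
    apply not_triv R hirr hd
    apply LinearMap.ext
    intro v
    have h1 : v - R gt v ∈ es (R gt) (-1) := by
      rw [mem_es_neg_one, map_sub, tt_v, neg_sub]
    rw [Submodule.finrank_eq_zero.1 h0, Submodule.mem_bot, sub_eq_zero] at h1
    exact h1.symm
  -- the four-group `t, s`
  have st : ∀ v, R gt (R gs v) = R gs (R gt v) := rel R ts
  have a := split_one h2 (es (R gt) (-1)) (R gs) (fun v hv => es_stab st hv) (s_v R)
  have b := split_one h2 (es (R gs) (-1)) (R gt) (fun v hv => es_stab (fun v => (st v).symm) hv) (tt_v R)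
  have c := split_one h2 (es (R (gt * gs)) (-1)) (R gt) (fun v hv => es_stab (fun v => by
    rw [rmul, rmul, tt_v, st, tt_v]) hv) (tt_v R)
  have d0 := split_one h2 (⊤ : Submodule F V) (R gt) (fun _ _ => trivial) (tt_v R)
  have d1 := split_one h2 (es (R gt) 1) (R gs) (fun v hv => es_stab st hv) (s_v R)
  have e1 : es (R (gt * gs)) (-1) ⊓ es (R gt) 1 = es (R gt) 1 ⊓ es (R gs) (-1) := by
    ext v
    simp only [Submodule.mem_inf, mem_es_one, mem_es_neg_one, rmul]
    constructor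
    · rintro ⟨h3, h4⟩
      refine ⟨h4, ?_⟩
      rw [st, h4] at h3
      exact h3
    · rintro ⟨h3, h4⟩
      refine ⟨?_, h3⟩
      rw [st, h3, h4]
  have e2 : es (R (gt * gs)) (-1) ⊓ es (R gt) (-1) = es (R gt) (-1) ⊓ es (R gs) 1 := by
    ext v
    simp only [Submodule.mem_inf, mem_es_one, mem_es_neg_one, rmul]
    constructor
    · rintro ⟨h3, h4⟩
      refine ⟨h4, ?_⟩
      rw [st, h4, map_neg, neg_inj] at h3
      exact h3
    · rintro ⟨h3, h4⟩
      refine ⟨?_, h3⟩
      rw [st, h3, map_neg, h4]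
  have e3 : es (R gs) (-1) ⊓ es (R gt) 1 = es (R gt) 1 ⊓ es (R gs) (-1) := inf_comm _ _
  have e4 : es (R gs) (-1) ⊓ es (R gt) (-1) = es (R gt) (-1) ⊓ es (R gs) (-1) := inf_comm _ _
  rw [e1, e2, es_conj R conj_ts] at c
  rw [e3, e4, es_conj R conj_s] at b
  rw [top_inf_eq, top_inf_eq, finrank_top, hd] at d0
  omega

theorem dim_s (h2 : (2 : F) ≠ 0) (hirr : Irr R) (hd : finrank F V = 10) :
    finrank F (J (R gt) (R gs) (R ge2) 1 1 (-1)) = 1 := by
  have h4 := dim_four R h2 hirr hd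
  refine (seven h2 hd (tt_v R) (s_v R) (e2_v R) (rel R ts) (rel R te2) (rel R se2) h4 ?_ ?_ ?_ ?_ ?_ ?_).1
  · rw [es_conj R conj_s, h4]
  · rw [es_conj R conj_e2, h4]
  · rw [← map_mul, es_conj R conj_ts, h4]
  · rw [← map_mul, es_conj R conj_te2, h4]
  · rw [← map_mul, es_conj R conj_se2, h4]
  · rw [← map_mul, ← map_mul, es_conj R conj_tse2, h4]

theorem dim_e (h2 : (2 : F) ≠ 0) (hirr : Irr R) (hd : finrank F V = 10) :
    finrank F (J (R gt) (R ge2) (R ge3) 1 (-1) 1) = 1 := by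
  have h4 := dim_four R h2 hirr hd
  refine (seven h2 hd (tt_v R) (e2_v R) (e3_v R) (rel R te2) (rel R te3) (rel R e2e3) h4 ?_ ?_ ?_ ?_ ?_ ?_).2
  · rw [es_conj R conj_e2, h4]
  · rw [es_conj R conj_e3, h4]
  · rw [← map_mul, es_conj R conj_te2, h4]
  · rw [← map_mul, es_conj R conj_te3, h4]
  · rw [← map_mul, es_conj R conj_e2e3, h4]
  · rw [← map_mul, ← map_mul, es_conj R conj_te2e3, h4]

end fin

/-- a scalar from a one-dimensional space -/
theorem exists_scalar {U : Submodule F V} (h1 : finrank F U = 1) {w : V} (hw : w ∈ U) (hw0 : w ≠ 0) {x : V} (hx : x ∈ U) :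
    ∃ c : F, x = c • w := by
  obtain ⟨c, hc⟩ := (finrank_eq_one_iff_of_nonzero' (⟨w, hw⟩ : U) (fun h => hw0 (congrArg Subtype.val h))).1 h1 ⟨x, hx⟩
  exact ⟨c, (congrArg Subtype.val hc).symm⟩

variable [FiniteDimensional F V]

/-- from the weight line: the fixed vector -/
theorem fixd_of (h2 : (2 : F) ≠ 0) (hJ : finrank F (J (R gt) (R gs) (R ge2) 1 1 (-1)) = 1)
    {w : V} (hw0 : w ≠ 0) (ht : R gt w = w) (he2 : R ge2 w = -w) (he3 : R ge3 w = w) (h3 : R gi2 w = w)
    (h4 : R gi3 w = w) : Fixd R (w + R gs w) := by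
  have hsw : R ge3 (R gs w) = -R gs w := by
    -- `e3 s = s e2 e3`
    have h5 : ge3 * gs = gs * ge2 * ge3 := by
      have h6 := se3
      have h7 : gs * (gs * ge3) * gs = gs * (ge2 * ge3 * gs) * gs := by rw [h6]
      rw [← mul_assoc gs gs, ss, one_mul, mul_assoc gs, mul_assoc (ge2 * ge3), ss, mul_one, ← mul_assoc] at h7
      exact h7
    rw [rel3 R h5, he3, he2, map_neg]
  have hv0 : w + R gs w ≠ 0 := by
    intro h0
    have h5 : R gs w = -w := by rw [eq_neg_iff_add_eq_zero, add_comm]; exact h0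
    rw [h5, map_neg, he3, neg_neg] at hsw
    have h6 : (2 : F) • w = 0 := by
      rw [two_smul]
      nth_rewrite 1 [← hsw]
      exact neg_add_cancel w
    exact hw0 ((smul_eq_zero.1 h6).resolve_left h2)
  have k2 : R gi2 (w + R gs w) = w + R gs w := by
    rw [map_add, h3, rel3 R i2s, h3, h4]
  have k3 : R gi3 (w + R gs w) = w + R gs w := by
    rw [map_add, h4, rel3 R i3s, ht, h4]
  have ks : R gs (w + R gs w) = w + R gs w := by
    rw [map_add, s_v, add_comm]
  have kt : R gt (w + R gs w) = w + R gs w := by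
    rw [map_add, ht, rel R ts, ht]
  have ke : R ge2 (w + R gs w) = -(w + R gs w) := by
    rw [map_add, he2, ← rel R se2, he2, map_neg, neg_add]
  refine ⟨hv0, k2, k3, ks, ?_, ke⟩
  set v := w + R gs w with hv
  have hvJ : v ∈ J (R gt) (R gs) (R ge2) 1 1 (-1) := by
    rw [mem_J, one_smul, neg_one_smul]
    exact ⟨kt, ks, ke⟩
  have hrJ : R gr v ∈ J (R gt) (R gs) (R ge2) 1 1 (-1) := by
    rw [mem_J, one_smul, neg_one_smul]
    have hs : R gs (R gr v) = R gr v := by rw [rel3 R sr, ks, kt]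
    refine ⟨by rw [rel R tr, ks], hs, ?_⟩
    rw [rel3 R e2r, ke, map_neg, map_neg, hs]
  obtain ⟨c, hc⟩ := exists_scalar hJ hvJ hv0 hrJ
  have c3 : c * (c * c) = 1 := by
    have h5 : R (gr * gr * gr) v = v := by rw [rr, rone]
    rw [rmul, rmul, hc, map_smul, map_smul, hc, map_smul, hc, smul_smul, smul_smul] at h5
    have h6 : (c * (c * c) - 1) • v = 0 := by rw [sub_smul, one_smul, ← mul_assoc, h5, sub_self]
    exact sub_eq_zero.1 ((smul_eq_zero.1 h6).resolve_right hv0)
  have c2 : c * c = 1 := by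
    have h5 : R (gs * gi3 * gr * (gs * gi3) * gr) v = R (gs * gi3 * (gs * gi3)) v := by rw [xr]
    have hx : R (gs * gi3) v = v := by rw [rmul, k3, ks]
    rw [rmul, hc, map_smul, rmul, hx, rmul, hc, map_smul, smul_smul, hx, rmul, hx, hx] at h5
    have h6 : (c * c - 1) • v = 0 := by rw [sub_smul, one_smul, h5, sub_self]
    exact sub_eq_zero.1 ((smul_eq_zero.1 h6).resolve_right hv0)
  rw [c2, mul_one] at c3
  rw [hc, c3, one_smul]

/-- the action of `gi2, gi3` on the weight line is by the same sign -/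
theorem sign_eq (hE : finrank F (J (R gt) (R ge2) (R ge3) 1 (-1) 1) = 1) {w : V} (hw0 : w ≠ 0)
    (ht : R gt w = w) (he2 : R ge2 w = -w) (he3 : R ge3 w = w) :
    ∃ x : F, x * x = 1 ∧ R gi2 w = x • w ∧ R gi3 w = x • w := by
  have hw : w ∈ J (R gt) (R ge2) (R ge3) 1 (-1) 1 := by
    rw [mem_J, one_smul, neg_one_smul]
    exact ⟨ht, he2, he3⟩
  have h2w : R gi2 w ∈ J (R gt) (R ge2) (R ge3) 1 (-1) 1 := by
    rw [mem_J, one_smul, neg_one_smul]
    -- `e2 i2 = i2 t e2`
    have q2 : R gt (R ge2 (R gi2 w)) = -R gi2 w := by rw [← rel3 R i2e2, he2, map_neg]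
    have q3 : R gt (R ge3 (R gi2 w)) = R gi2 w := by rw [← rel3 R i2e3, he3]
    have q1 : R gt (R gi2 w) = R gi2 w := by rw [rel R ti2, ht]
    refine ⟨q1, ?_, ?_⟩
    · rw [rel R te2, q1] at q2; exact q2
    · rw [rel R te3, q1] at q3; exact q3
  obtain ⟨x, hx⟩ := exists_scalar hE hw hw0 h2w
  have x2 : x * x = 1 := by
    have h5 : R (gi2 * gi2) w = w := by rw [i2i2, ht]
    rw [rmul, hx, map_smul, hx, smul_smul] at h5
    have h6 : (x * x - 1) • w = 0 := by rw [sub_smul, one_smul, h5, sub_self]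
    exact sub_eq_zero.1 ((smul_eq_zero.1 h6).resolve_right hw0)
  refine ⟨x, x2, hx, ?_⟩
  have hu : R gu w ∈ J (R gt) (R ge2) (R ge3) 1 (-1) 1 := by
    rw [mem_J, one_smul, neg_one_smul]
    exact ⟨by rw [rel R tu, ht], by rw [rel3 R e2u, he3, he2, map_neg], by rw [rel R e3u, he3]⟩
  obtain ⟨c, hc⟩ := exists_scalar hE hw hw0 hu
  have hc0 : c ≠ 0 := by
    rintro rfl
    rw [zero_smul] at hc
    exact hw0 (rzero R _ hc)
  have h7 := rel R i3u w
  rw [hc, map_smul, hx, map_smul, hc, smul_smul, mul_comm, ← smul_smul] at h7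
  have h8 : c • (R gi3 w - x • w) = 0 := by rw [smul_sub, h7, sub_self]
  exact sub_eq_zero.1 ((smul_eq_zero.1 h8).resolve_left hc0)

/-- **Odd characteristic.** -/
theorem exists_fixd (h2 : (2 : F) ≠ 0) (hirr : Irr R) (hd : finrank F V = 10) :
    (∃ v, Fixd R v) ∨ ∃ v, Fixd (R.comp beta) v := by
  have hE := dim_e R h2 hirr hd
  obtain ⟨⟨w, hw⟩, hw0⟩ := (finrank_pos_iff_exists_ne_zero (R := F)
    (M := J (R gt) (R ge2) (R ge3) 1 (-1) 1)).1 (by rw [hE]; norm_num)
  have hw0' : w ≠ 0 := fun h => hw0 (Subtype.ext h)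
  obtain ⟨ht, he2, he3⟩ := mem_J.1 hw
  rw [one_smul] at ht he3
  rw [neg_one_smul] at he2
  obtain ⟨x, x2, hx2, hx3⟩ := sign_eq R hE hw0' ht he2 he3
  have hx : x = 1 ∨ x = -1 := mul_self_eq_one_iff.1 x2
  rcases hx with rfl | rfl
  · rw [one_smul] at hx2 hx3
    exact Or.inl ⟨_, fixd_of R h2 (dim_s R h2 hirr hd) hw0' ht he2 he3 hx2 hx3⟩
  · right
    have hbs : Function.Surjective beta := by
      intro g
      refine ⟨Cfsg.Agent.CoThreeStd.OutAut.alpha (gs⁻¹ * g * gs), ?_⟩
      show gs * Cfsg.Agent.CoThreeStd.OutAut.alpha (Cfsg.Agent.CoThreeStd.OutAut.alpha _) * gs⁻¹ = g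
      rw [Cfsg.Agent.CoThreeStd.OutAut.alpha_alpha]
      group
    have hirr' : Irr (R.comp beta) := by
      intro U hU
      apply hirr U
      intro g u hu
      obtain ⟨g', rfl⟩ := hbs g
      exact hU g' u hu
    have bt : (R.comp beta) gt = R gt := by rw [MonoidHom.comp_apply, beta_t]
    have b2 : (R.comp beta) ge2 = R ge2 := by rw [MonoidHom.comp_apply, beta_e2]
    have b3 : (R.comp beta) ge3 = R ge3 := by rw [MonoidHom.comp_apply, beta_e3]
    have hE' : finrank F (J ((R.comp beta) gt) ((R.comp beta) ge2) ((R.comp beta) ge3) 1 (-1) 1) = 1 := by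
      rw [bt, b2, b3]; exact hE
    have ht' : (R.comp beta) gt w = w := by rw [bt]; exact ht
    have he2' : (R.comp beta) ge2 w = -w := by rw [b2]; exact he2
    have he3' : (R.comp beta) ge3 w = w := by rw [b3]; exact he3
    have hi2' : (R.comp beta) gi2 w = w := by
      rw [MonoidHom.comp_apply, beta_i2, rmul, rmul, rmul, he3, he2, map_neg, ht, map_neg, hx2, neg_one_smul, neg_neg]
    obtain ⟨x, -, hx2', hx3'⟩ := sign_eq (R.comp beta) hE' hw0' ht' he2' he3'
    have hx1 : x = 1 := by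
      rw [hi2'] at hx2'
      have h6 : (x - 1) • w = 0 := by rw [sub_smul, one_smul, ← hx2', sub_self]
      exact sub_eq_zero.1 ((smul_eq_zero.1 h6).resolve_right hw0')
    rw [hx1, one_smul] at hx3'
    exact ⟨_, fixd_of (R.comp beta) h2 (dim_s (R.comp beta) h2 hirr' hd) hw0' ht' he2' he3' hi2' hx3'⟩

/-- both cannot happen -/
theorem not_both (h2 : (2 : F) ≠ 0) (hirr : Irr R) (hd : finrank F V = 10) {v v' : V} (hv : Fixd R v)
    (hv' : Fixd (R.comp beta) v') : False := by
  have hE := dim_e R h2 hirr hd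
  -- the component of a fixed vector in the weight line
  have comp : ∀ (R' : Spor.M12 →* Module.End F V) {v : V}, Fixd R' v → ∃ w : V, w ≠ 0 ∧ R' gt w = w ∧ R' ge2 w = -w ∧
      R' ge3 w = w ∧ R' gi2 w = w := by
    intro R' v hv
    have htv : R' gt v = v := by rw [← i2i2, rmul, hv.i2, hv.i2]
    refine ⟨v + R' ge3 v, ?_, ?_, ?_, ?_, ?_⟩
    · intro h0
      have h5 : R' ge3 v = -v := by rw [eq_neg_iff_add_eq_zero, add_comm]; exact h0
      -- apply `s`
      have h6 := rel3 R' se3 v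
      rw [h5, map_neg, hv.s, h5, map_neg, hv.e2, neg_neg] at h6
      have h7 : (2 : F) • v = 0 := by
        rw [two_smul]
        nth_rewrite 1 [← h6]
        exact neg_add_cancel v
      exact hv.ne ((smul_eq_zero.1 h7).resolve_left h2)
    · rw [map_add, htv, rel R' te3, htv]
    · rw [map_add, hv.e2, rel R' e2e3, hv.e2, map_neg, neg_add]
    · rw [map_add, e3_v, add_comm]
    · rw [map_add, hv.i2, rel3 R' i2e3, hv.i2, rel R' te3, htv]
  obtain ⟨w, hw0, ht, he2, he3, hi2⟩ := comp R hv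
  obtain ⟨w', hw0', ht', he2', he3', hi2'⟩ := comp (R.comp beta) hv'
  rw [MonoidHom.comp_apply, beta_t] at ht'
  rw [MonoidHom.comp_apply, beta_e2] at he2'
  rw [MonoidHom.comp_apply, beta_e3] at he3'
  rw [MonoidHom.comp_apply, beta_i2, rmul, rmul, rmul, he3', he2', map_neg, ht', map_neg] at hi2'
  have hw : w ∈ J (R gt) (R ge2) (R ge3) 1 (-1) 1 := by
    rw [mem_J, one_smul, neg_one_smul]; exact ⟨ht, he2, he3⟩
  have hw' : w' ∈ J (R gt) (R ge2) (R ge3) 1 (-1) 1 := by
    rw [mem_J, one_smul, neg_one_smul]; exact ⟨ht', he2', he3'⟩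
  obtain ⟨c, hc⟩ := exists_scalar hE hw hw0 hw'
  rw [hc, map_smul, hi2, ← hc] at hi2'
  have h7 : (2 : F) • w' = 0 := by
    rw [two_smul]
    nth_rewrite 1 [← hi2']
    exact neg_add_cancel w'
  exact hw0' ((smul_eq_zero.1 h7).resolve_left h2)

end Cfsg.Agent.H36.M12
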