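import Cfsg.Agent.H36.M12.Lin
import Cfsg.Agent.H727.GW.Isom

/-!
# Quaternion groups and symmetric forms (helper36)

* `alt_rank_even` : alternating forms have even rank;
* `minus_dvd` : a space with a nondegenerate symmetric form invariant under a faithful quaternion group has dimension
  divisible by four.
* `plus_dvd` : two commuting involutions `i`, `j` such that `i`, `j`, `i j` have trace zero.
-/

set_option autoImplicit false
set_option linter.unusedSectionVars false

namespace Cfsg.Agent.H36.M12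

open Module Cfsg.Agent.H932.Mt

section

variable {F T : Type*} [Field F] [AddCommGroup T] [Module F T] [FiniteDimensional F T]

/-- alternating forms have even rank -/
theorem alt_rank_even (B : LinearMap.BilinForm F T) (hB : ∀ x, B x x = 0) :
    ∃ r, finrank F T = finrank F (LinearMap.ker B) + 2 * r := by
  obtain ⟨W, hW⟩ := Submodule.exists_isCompl (LinearMap.ker B)
  have hsw : ∀ x y, B x y = -B y x := by
    intro x y
    have h1 := hB (x + y)
    simp only [map_add, LinearMap.add_apply] at h1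
    rw [hB, hB] at h1
    linear_combination h1
  have h1 := H727.GW.even_finrank (F := F) (finrank F W) W (B.restrict W) (fun x => hB x) (fun x hx => by
    have h2 : (x : T) ∈ LinearMap.ker B := by
      rw [LinearMap.mem_ker]
      apply LinearMap.ext
      intro y
      have hy : y ∈ LinearMap.ker B ⊔ W := by rw [hW.sup_eq_top]; trivial
      obtain ⟨a, ha, b, hb, rfl⟩ := Submodule.mem_sup.1 hy
      rw [LinearMap.mem_ker] at ha
      have h3 : B x b = 0 := hx ⟨b, hb⟩
      rw [map_add, hsw x a, ha, LinearMap.zero_apply, h3, neg_zero, add_zero, LinearMap.zero_apply]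
    have h3 : (x : T) ∈ LinearMap.ker B ⊓ W := ⟨h2, x.2⟩
    rw [hW.inf_eq_bot, Submodule.mem_bot] at h3
    exact Subtype.ext h3) rfl
  obtain ⟨k, hk⟩ := h1
  have h2 := Submodule.finrank_add_eq_of_isCompl hW
  exact ⟨k, by omega⟩

/-- **The faithful part.** -/
theorem quat_dvd (h2 : (2 : F) ≠ 0) (f : LinearMap.BilinForm F T) (hs : ∀ x y, f x y = f y x)
    (hnd : ∀ x, (∀ y, f x y = 0) → x = 0) (I J : Module.End F T) (hI : ∀ x, I (I x) = -x) (hJ : ∀ x, J (J x) = -x)
    (hJI : ∀ x, J (I x) = -(I (J x))) (fI : ∀ x y, f (I x) (I y) = f x y) (fJ : ∀ x y, f (J x) (J y) = f x y)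
    {β γ : F} (hβ : β * β + γ * γ = -1) : 4 ∣ finrank F T := by
  -- skewness
  have sI : ∀ x y, f (I x) y = -f x (I y) := by
    intro x y
    have h1 := fI (I x) y
    rw [hI, map_neg, LinearMap.neg_apply] at h1
    rw [← h1]
  have sJ : ∀ x y, f (J x) y = -f x (J y) := by
    intro x y
    have h1 := fJ (J x) y
    rw [hJ, map_neg, LinearMap.neg_apply] at h1
    rw [← h1]
  set n : Module.End F T := I + β • J + γ • (I * J) with hn
  have n_apply : ∀ x, n x = I x + β • J x + γ • I (J x) := fun x => rfl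
  have skew : ∀ x y, f (n x) y = -f x (n y) := by
    intro x y
    rw [n_apply, n_apply]
    simp only [map_add, map_smul, LinearMap.add_apply, LinearMap.smul_apply, smul_eq_mul]
    have e1 : f (I (J x)) y = -f x (I (J y)) := by
      rw [sI, sJ, hJI, map_neg, neg_neg]
    rw [sI, sJ, e1]
    ring
  have n2 : ∀ x, n (n x) = 0 := by
    intro x
    rw [n_apply x]
    simp only [map_add, map_smul]
    rw [n_apply, n_apply, n_apply]
    have a1 : J (I (J x)) = I x := by rw [hJI, hJ, map_neg, neg_neg]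
    have a2 : I (J (I x)) = J x := by rw [hJI, map_neg, hI, neg_neg]
    have a3 : I (J (I (J x))) = -x := by rw [a1, hI]
    rw [a3, a1, a2, hI, hI, hJ, hJI, map_neg]
    simp only [smul_add, smul_neg, smul_smul]
    have : -x + -(β • I (J x)) + γ • J x + (β • I (J x) + -((β * β) • x) + -((β * γ) • I x)) +
        (-(γ • J x) + (γ * β) • I x + -((γ * γ) • x)) = -((1 + (β * β + γ * γ)) • x) + ((γ * β) • I x - (β * γ) • I x) := by
      rw [add_smul, add_smul, one_smul]; abel
    rw [this, hβ, mul_comm γ β, sub_self, add_neg_cancel, zero_smul, neg_zero, add_zero]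
  have nI : ∀ x, n (I x) + I (n x) = -((2 : F) • x) := by
    intro x
    rw [n_apply, n_apply, map_add, map_add, map_smul, map_smul, hI, hI, hJI, map_neg, hI, neg_neg]
    simp only [smul_neg]
    rw [two_smul]
    abel
  -- kernel and range
  have hkr : LinearMap.range n = LinearMap.ker n := by
    apply le_antisymm
    · rintro _ ⟨x, rfl⟩
      rw [LinearMap.mem_ker, n2]
    · intro x hx
      rw [LinearMap.mem_ker] at hx
      refine ⟨(-(2 : F)⁻¹) • I x, ?_⟩
      have h1 := nI x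
      rw [hx, map_zero, add_zero] at h1
      rw [map_smul, h1, smul_neg, smul_smul, neg_mul, inv_mul_cancel₀ h2, neg_smul, one_smul, neg_neg]
  have h1 := LinearMap.finrank_range_add_finrank_ker n
  rw [hkr] at h1
  -- the alternating form
  let B : LinearMap.BilinForm F T := f.comp n LinearMap.id
  have hB : ∀ x y, B x y = f (n x) y := fun _ _ => rfl
  obtain ⟨r, hr⟩ := alt_rank_even B (fun x => by
    have h3 := skew x x
    rw [hs x (n x)] at h3
    rw [hB]
    have h4 : (2 : F) * f (n x) x = 0 := by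
      rw [two_mul]
      nth_rewrite 1 [h3]
      exact neg_add_cancel _
    exact (mul_eq_zero.1 h4).resolve_left h2)
  have h3 : LinearMap.ker B = LinearMap.ker n := by
    ext x
    rw [LinearMap.mem_ker, LinearMap.mem_ker]
    constructor
    · intro h
      apply hnd
      intro y
      rw [← hB, h, LinearMap.zero_apply]
    · intro h
      apply LinearMap.ext
      intro y
      rw [hB, h, map_zero]
  rw [h3] at hr
  exact ⟨r, by omega⟩

end

section

variable {F V : Type*} [Field F] [AddCommGroup V] [Module F V] [FiniteDimensional F V]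

/-- **The part with commuting involutions.** -/
theorem plus_dvd (h2 : (2 : F) ≠ 0) (W : Submodule F V) (I J HI HJ HK : Module.End F V)
    (wI : ∀ v ∈ W, I v ∈ W) (wJ : ∀ v ∈ W, J v ∈ W) (I2 : ∀ v ∈ W, I (I v) = v) (J2 : ∀ v ∈ W, J (J v) = v)
    (hIJ : ∀ v ∈ W, J (I v) = I (J v))
    (wHI : ∀ v ∈ W, HI v ∈ W) (wHJ : ∀ v ∈ W, HJ v ∈ W) (wHK : ∀ v ∈ W, HK v ∈ W)
    (iHI : ∀ v, HI v = 0 → v = 0) (iHJ : ∀ v, HJ v = 0 → v = 0) (iHK : ∀ v, HK v = 0 → v = 0)
    (aI : ∀ v ∈ W, I (HI v) = -(HI (I v))) (aJ : ∀ v ∈ W, J (HJ v) = -(HJ (J v)))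
    (aK : ∀ v ∈ W, (I * J) (HK v) = -(HK ((I * J) v))) : 4 ∣ finrank F W := by
  have c1 : (2 : F) * 1 ≠ 0 := by rwa [mul_one]
  have sI := split W I c1 wI (fun v hv => by rw [I2 v hv, mul_one, one_smul])
  have sJ := split W J c1 wJ (fun v hv => by rw [J2 v hv, mul_one, one_smul])
  have wK : ∀ v ∈ W, (I * J) v ∈ W := fun v hv => wI _ (wJ _ hv)
  have K2 : ∀ v ∈ W, (I * J) ((I * J) v) = v := by
    intro v hv
    rw [Module.End.mul_apply, Module.End.mul_apply, hIJ _ (wJ _ hv), J2 v hv, I2 v hv]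
  have sK := split W (I * J) c1 wK (fun v hv => by rw [K2 v hv, mul_one, one_smul])
  have eI := anti W I HI 1 wHI (fun v _ => iHI v) aI
  have eJ := anti W J HJ 1 wHJ (fun v _ => iHJ v) aJ
  have eK := anti W (I * J) HK 1 wHK (fun v _ => iHK v) aK
  have sub : ∀ a : F, finrank F (W ⊓ es I a : Submodule F V) =
      finrank F (W ⊓ es I a ⊓ es J 1 : Submodule F V) + finrank F (W ⊓ es I a ⊓ es J (-1) : Submodule F V) := by
    intro a
    refine split (W ⊓ es I a) J c1 ?_ (fun v hv => by rw [J2 v hv.1, mul_one, one_smul])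
    rintro v ⟨hv, hv'⟩
    refine ⟨wJ v hv, ?_⟩
    rw [SetLike.mem_coe, mem_es] at hv' ⊢
    rw [← hIJ v hv, hv', map_smul]
  have subJ : finrank F (W ⊓ es J 1 : Submodule F V) =
      finrank F (W ⊓ es J 1 ⊓ es I 1 : Submodule F V) + finrank F (W ⊓ es J 1 ⊓ es I (-1) : Submodule F V) := by
    refine split (W ⊓ es J 1) I c1 ?_ (fun v hv => by rw [I2 v hv.1, mul_one, one_smul])
    rintro v ⟨hv, hv'⟩
    refine ⟨wI v hv, ?_⟩
    rw [SetLike.mem_coe, mem_es] at hv' ⊢
    rw [hIJ v hv, hv', map_smul]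
  have subK : finrank F (W ⊓ es (I * J) 1 : Submodule F V) =
      finrank F (W ⊓ es (I * J) 1 ⊓ es I 1 : Submodule F V) + finrank F (W ⊓ es (I * J) 1 ⊓ es I (-1) : Submodule F V) := by
    refine split (W ⊓ es (I * J) 1) I c1 ?_ (fun v hv => by rw [I2 v hv.1, mul_one, one_smul])
    rintro v ⟨hv, hv'⟩
    refine ⟨wI v hv, ?_⟩
    rw [SetLike.mem_coe, mem_es] at hv' ⊢
    rw [Module.End.mul_apply, hIJ v hv, ← Module.End.mul_apply I J, hv', map_smul]
  have q1 : W ⊓ es J 1 ⊓ es I 1 = W ⊓ es I 1 ⊓ es J 1 := by rw [inf_right_comm]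
  have q2 : W ⊓ es J 1 ⊓ es I (-1) = W ⊓ es I (-1) ⊓ es J 1 := by rw [inf_right_comm]
  have q3 : W ⊓ es (I * J) 1 ⊓ es I 1 = W ⊓ es I 1 ⊓ es J 1 := by
    ext v
    simp only [Submodule.mem_inf, mem_es, one_smul, Module.End.mul_apply]
    constructor
    · rintro ⟨⟨hv, h3⟩, h4⟩
      refine ⟨⟨hv, h4⟩, ?_⟩
      rw [← hIJ v hv, h4] at h3
      exact h3
    · rintro ⟨⟨hv, h3⟩, h4⟩
      exact ⟨⟨hv, by rw [h4, h3]⟩, h3⟩
  have q4 : W ⊓ es (I * J) 1 ⊓ es I (-1) = W ⊓ es I (-1) ⊓ es J (-1) := by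
    ext v
    simp only [Submodule.mem_inf, mem_es, one_smul, neg_one_smul, Module.End.mul_apply]
    constructor
    · rintro ⟨⟨hv, h3⟩, h4⟩
      refine ⟨⟨hv, h4⟩, ?_⟩
      rw [← hIJ v hv, h4, map_neg, neg_eq_iff_eq_neg] at h3
      exact h3
    · rintro ⟨⟨hv, h3⟩, h4⟩
      exact ⟨⟨hv, by rw [h4, map_neg, h3, neg_neg]⟩, h3⟩
  rw [q1, q2] at subJ
  rw [q3, q4] at subK
  have s1 := sub 1
  have s2 := sub (-1)
  omega

end

end Cfsg.Agent.H36.M12
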