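import Mathlib

/-!
# Linear algebra in characteristic two (helper36)

* `two_dim` : a quaternion-like configuration acts trivially on a two-dimensional space;
* `split_idem` : splitting by an idempotent.
-/

set_option autoImplicit false
set_option linter.unusedSectionVars false

namespace Cfsg.Agent.H36.M12

open Module

variable {F T : Type*} [Field F] [AddCommGroup T] [Module F T]

theorem dbl (c2 : (2 : F) = 0) (v : T) : v + v = 0 := by
  rw [← two_smul F, c2, zero_smul]

theorem neg_self (c2 : (2 : F) = 0) (v : T) : -v = v := by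
  rw [neg_eq_iff_add_eq_zero]; exact dbl c2 v

/-- splitting by an idempotent -/
theorem split_idem [FiniteDimensional F T] (W : Submodule F T) (P : Module.End F T) (hP : ∀ v, P (P v) = P v)
    (hW : ∀ v ∈ W, P v ∈ W) :
    finrank F W = finrank F (W ⊓ LinearMap.ker P : Submodule F T) + finrank F (W ⊓ LinearMap.ker (P - 1) : Submodule F T) := by
  have h1 : (W ⊓ LinearMap.ker P) ⊔ (W ⊓ LinearMap.ker (P - 1)) = W := by
    apply le_antisymm (sup_le inf_le_left inf_le_left)
    intro v hv
    rw [Submodule.mem_sup]
    refine ⟨v - P v, ⟨W.sub_mem hv (hW v hv), ?_⟩, P v, ⟨hW v hv, ?_⟩, by abel⟩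
    · rw [SetLike.mem_coe, LinearMap.mem_ker, map_sub, hP, sub_self]
    · rw [SetLike.mem_coe, LinearMap.mem_ker, LinearMap.sub_apply, hP, Module.End.one_apply, sub_self]
  have h2 : (W ⊓ LinearMap.ker P) ⊓ (W ⊓ LinearMap.ker (P - 1)) = ⊥ := by
    rw [eq_bot_iff]
    rintro v ⟨⟨_, h3⟩, ⟨_, h4⟩⟩
    rw [SetLike.mem_coe, LinearMap.mem_ker] at h3 h4
    rw [LinearMap.sub_apply, h3, Module.End.one_apply, zero_sub, neg_eq_zero] at h4
    exact h4
  have h3 := Submodule.finrank_sup_add_finrank_inf_eq (W ⊓ LinearMap.ker P) (W ⊓ LinearMap.ker (P - 1))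
  rw [h1, h2, finrank_bot, add_zero] at h3
  exact h3

/-- **Two-dimensional spaces.** -/
theorem two_dim (hT : finrank F T = 2) (c2 : (2 : F) = 0) (A B P S : Module.End F T)
    (hP : ∀ v, P v = 0 → v = 0) (hS : ∀ v, S v = 0 → v = 0) (hA4 : A * A * (A * A) = 1) (hAB2 : B * B = A * A)
    (hBA : B * A = A * A * (A * B)) (hPA : P * A = B * P) (hPB : P * B = A * B * P)
    (hSA : S * A = A * A * B * S) (hSB : S * B = A * A * A * S) : A = 1 ∧ B = 1 := by
  have hfin : FiniteDimensional F T := FiniteDimensional.of_finrank_pos (by rw [hT]; norm_num)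
  have d : ∀ X : Module.End F T, X + X = 0 := fun X => dbl c2 X
  have sq : ∀ X : Module.End F T, (X + 1) * (X + 1) = X * X + 1 := by
    intro X
    have : (X + 1) * (X + 1) = X * X + 1 + (X + X) := by noncomm_ring
    rw [this, d, add_zero]
  have nil : ∀ X : Module.End F T, X * X * (X * X) = 1 → X * X = 1 := by
    intro X hX
    have h1 : (X + 1) ^ 4 = 0 := by
      rw [show (4 : ℕ) = 2 * 2 by norm_num, pow_mul, pow_two (X + 1), sq, pow_two, sq, hX]
      exact d 1
    have h2 : (X + 1) ^ 2 = 0 := by
      have h3 := Module.End.ker_pow_le_ker_pow_finrank (X + 1) 4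
      rw [h1, hT] at h3
      apply LinearMap.ext
      intro v
      have : v ∈ LinearMap.ker (0 : Module.End F T) := by simp
      exact h3 this
    rw [pow_two, sq] at h2
    have h3 : X * X = -1 := eq_neg_of_add_eq_zero_left h2
    rw [h3]
    exact neg_self c2 (1 : Module.End F T)
  have A2 : A * A = 1 := nil A hA4
  rw [A2] at hAB2
  rw [A2, one_mul] at hBA hSA hSB
  have key : A = 1 := by
    by_contra hne
    -- `N₁ = A + 1`, `N₂ = B + 1`
    have hN1 : (A + 1) * (A + 1) = 0 := by rw [sq, A2]; exact d 1
    have hN2 : (B + 1) * (B + 1) = 0 := by rw [sq, hAB2]; exact d 1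
    have hcomm : (A + 1) * (B + 1) = (B + 1) * (A + 1) := by
      have : (A + 1) * (B + 1) - (B + 1) * (A + 1) = A * B - B * A := by noncomm_ring
      rw [← sub_eq_zero, this, hBA, sub_self]
    obtain ⟨x, hx⟩ : ∃ x, (A + 1) x ≠ 0 := by
      by_contra hcon
      push Not at hcon
      apply hne
      apply LinearMap.ext
      intro v
      have h1 := hcon v
      rw [LinearMap.add_apply, Module.End.one_apply] at h1
      rw [Module.End.one_apply, eq_neg_of_add_eq_zero_left h1]
      exact neg_self c2 v
    set y := (A + 1) x with hy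
    have h1y : (A + 1) y = 0 := by rw [hy, ← Module.End.mul_apply, hN1, LinearMap.zero_apply]
    -- `x, y` is a basis
    have hli : LinearIndependent F ![x, y] := by
      rw [LinearIndependent.pair_iff]
      intro a b hab
      have h3 := congrArg (A + 1 : Module.End F T) hab
      rw [map_add, map_smul, map_smul, h1y, smul_zero, add_zero, map_zero] at h3
      have ha : a = 0 := (smul_eq_zero.1 h3).resolve_right hx
      rw [ha, zero_smul, zero_add] at hab
      exact ⟨ha, (smul_eq_zero.1 hab).resolve_right hx⟩
    have hsp : ∀ z : T, ∃ a b : F, z = a • x + b • y := by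
      intro z
      have h4 := hli.span_eq_top_of_card_eq_finrank (by rw [hT]; rfl)
      have hz : z ∈ Submodule.span F (Set.range ![x, y]) := by rw [h4]; trivial
      have h5 : Set.range ![x, y] = {x, y} := by
        ext w
        simp only [Set.mem_range, Set.mem_insert_iff, Set.mem_singleton_iff]
        constructor
        · rintro ⟨i, rfl⟩
          fin_cases i
          · exact Or.inl rfl
          · exact Or.inr rfl
        · rintro (rfl | rfl)
          · exact ⟨0, rfl⟩
          · exact ⟨1, rfl⟩
      rw [h5, Submodule.mem_span_pair] at hz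
      obtain ⟨a, b, h6⟩ := hz
      exact ⟨a, b, h6.symm⟩
    obtain ⟨α, β, hβ⟩ := hsp ((B + 1) x)
    have hBy : (B + 1) y = α • y := by
      rw [hy, ← Module.End.mul_apply, ← hcomm, Module.End.mul_apply, hβ, map_add, map_smul, map_smul, h1y,
        smul_zero, add_zero]
    have hα : α = 0 := by
      have h3 : ((B + 1) * (B + 1)) y = 0 := by rw [hN2, LinearMap.zero_apply]
      rw [Module.End.mul_apply, hBy, map_smul, hBy, smul_smul] at h3
      exact mul_self_eq_zero.1 ((smul_eq_zero.1 h3).resolve_right hx)
    rw [hα, zero_smul] at hBy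
    rw [hα, zero_smul, zero_add] at hβ
    have hN : ∀ z, (B + 1) z = β • (A + 1) z := by
      intro z
      obtain ⟨a, b, rfl⟩ := hsp z
      rw [map_add, map_smul, map_smul, hβ, hBy, smul_zero, add_zero, map_add, map_smul, map_smul, h1y, smul_zero,
        add_zero, ← hy, smul_comm]
    have hN3 : ∀ z, (A * B + 1) z = (1 + β) • (A + 1) z := by
      intro z
      have h3 : (A * B + 1 : Module.End F T) = (A + 1) * (B + 1) + (A + 1) + (B + 1) := by
        have : (A + 1) * (B + 1) + (A + 1) + (B + 1) = A * B + 1 + (A + A) + (B + B) + (1 + 1) := by noncomm_ring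
        rw [this, d, d, d]; simp
      rw [h3, LinearMap.add_apply, LinearMap.add_apply, Module.End.mul_apply, hN, map_smul, ← Module.End.mul_apply (A + 1) (A + 1),
        hN1, LinearMap.zero_apply, smul_zero, zero_add, add_smul, one_smul]
    -- `P`
    have p1 : P ((A + 1) x) = β • (A + 1) (P x) := by
      rw [← hN, ← Module.End.mul_apply, ← Module.End.mul_apply, mul_add, add_mul, hPA, mul_one, one_mul]
    have p2 : P ((B + 1) x) = (1 + β) • (A + 1) (P x) := by
      rw [← hN3, ← Module.End.mul_apply, ← Module.End.mul_apply, mul_add, add_mul, hPB, mul_one, one_mul]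
    rw [hN, map_smul, p1, smul_smul] at p2
    have hg : (A + 1) (P x) ≠ 0 := by
      intro h0
      rw [h0, smul_zero] at p1
      exact hx (hP _ p1)
    have q1 : β * β = 1 + β := by
      have h3 : (β * β - (1 + β)) • (A + 1) (P x) = 0 := by rw [sub_smul, p2, sub_self]
      exact sub_eq_zero.1 ((smul_eq_zero.1 h3).resolve_right hg)
    -- `S`
    have s1 : S ((A + 1) x) = β • (A + 1) (S x) := by
      rw [← hN, ← Module.End.mul_apply, ← Module.End.mul_apply, mul_add, add_mul, hSA, mul_one, one_mul]
    have s2 : S ((B + 1) x) = (A + 1) (S x) := by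
      rw [← Module.End.mul_apply, ← Module.End.mul_apply, mul_add, add_mul, hSB, mul_one, one_mul]
    rw [hN, map_smul, s1, smul_smul] at s2
    have hg' : (A + 1) (S x) ≠ 0 := by
      intro h0
      rw [h0, smul_zero] at s1
      exact hx (hS _ s1)
    have q2 : β * β = 1 := by
      have h3 : (β * β - 1) • (A + 1) (S x) = 0 := by rw [sub_smul, s2, one_smul, sub_self]
      exact sub_eq_zero.1 ((smul_eq_zero.1 h3).resolve_right hg')
    have q3 : β = 0 := by linear_combination q2 - q1
    rw [q3, mul_zero] at q2
    exact zero_ne_one q2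
  refine ⟨key, ?_⟩
  -- `B = P A P⁻¹`
  have hinj : Function.Injective P := by
    rw [← LinearMap.ker_eq_bot, LinearMap.ker_eq_bot']
    exact hP
  have hsurj : Function.Surjective P := LinearMap.injective_iff_surjective.1 hinj
  apply LinearMap.ext
  intro v
  obtain ⟨w, rfl⟩ := hsurj v
  rw [← Module.End.mul_apply, ← hPA, key, mul_one]
  rfl

end Cfsg.Agent.H36.M12
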