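import Cfsg.Agent.H36.M12.TwoWords
import Cfsg.Agent.H36.M12.TwoLin

/-!
# Ten-dimensional modules of `M₁₂` in characteristic two (helper36)
-/

set_option autoImplicit false
set_option maxRecDepth 100000
set_option linter.unusedSectionVars false

namespace Cfsg.Agent.H36.M12

open Module Cfsg Cfsg.Agent.H932.Mt Cfsg.Agent.CoThreeStd.MTwelve Cfsg.Agent.SporadicStructure.M11InvPerms

variable {F V : Type*} [Field F] [AddCommGroup V] [Module F V] [FiniteDimensional F V]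

section

variable (R : Spor.M12 →* Module.End F V)

/-- sum over the powers -/
def tri3 (g : Spor.M12) : Module.End F V := 1 + R g + R g * R g

theorem tri3_apply (g : Spor.M12) (v : V) : tri3 R g v = v + R g v + R g (R g v) := rfl

theorem cube {g : Spor.M12} (hg : g * g * g = 1) (v : V) : R g (R g (R g v)) = v := by
  rw [← rmul, ← rmul, hg, rone]

theorem tri3_fix {g : Spor.M12} (hg : g * g * g = 1) (v : V) : R g (tri3 R g v) = tri3 R g v := by
  rw [tri3_apply, map_add, map_add, cube R hg]; abel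

theorem tri3_of_fix (c2 : (2 : F) = 0) {g : Spor.M12} {v : V} (h : R g v = v) : tri3 R g v = v := by
  rw [tri3_apply, h, h, dbl c2, zero_add]

theorem tri3_idem (c2 : (2 : F) = 0) {g : Spor.M12} (hg : g * g * g = 1) (v : V) :
    tri3 R g (tri3 R g v) = tri3 R g v := tri3_of_fix R c2 (tri3_fix R hg v)

theorem fix_of_tri3 {g : Spor.M12} (hg : g * g * g = 1) {v : V} (h : tri3 R g v = v) : R g v = v := by
  rw [← h, tri3_fix R hg]

theorem ker_sub_one (c2 : (2 : F) = 0) {g : Spor.M12} (hg : g * g * g = 1) : LinearMap.ker (tri3 R g - 1) = es (R g) 1 := by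
  ext v
  rw [LinearMap.mem_ker, LinearMap.sub_apply, sub_eq_zero, Module.End.one_apply, mem_es_one]
  exact ⟨fix_of_tri3 R hg, tri3_of_fix R c2⟩

theorem tri3_comm {g h : Spor.M12} (e : g * h = h * g) (v : V) : R h (tri3 R g v) = tri3 R g (R h v) := by
  rw [tri3_apply, tri3_apply, map_add, map_add, ← rel R e v, ← rel R e (R g v), ← rel R e v]

theorem tri3_comm' {g h : Spor.M12} (e : g * h = h * g) (v : V) : tri3 R g (tri3 R h v) = tri3 R h (tri3 R g v) := by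
  rw [tri3_apply R h, map_add, map_add, ← tri3_comm R e, ← tri3_comm R e, ← tri3_comm R e, ← tri3_apply R h]

/-- the sum over `E` -/
def ee : Module.End F V := tri3 R gh1 * tri3 R gh2

theorem ee_apply (v : V) : ee R v = tri3 R gh1 (tri3 R gh2 v) := rfl

theorem ee_apply' (v : V) : ee R v = tri3 R gh2 (tri3 R gh1 v) := tri3_comm' R h1h2 v

/-- the fixed space of `E` -/
def TT : Submodule F V := es (R gh1) 1 ⊓ es (R gh2) 1

theorem mem_TT {v : V} : v ∈ TT R ↔ R gh1 v = v ∧ R gh2 v = v := by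
  rw [TT, Submodule.mem_inf, mem_es_one, mem_es_one]

theorem ee_mem (v : V) : ee R v ∈ TT R := by
  rw [mem_TT]
  exact ⟨by rw [ee_apply, tri3_fix R h1h1h1], by rw [ee_apply', tri3_fix R h2h2h2]⟩

theorem ee_of_mem (c2 : (2 : F) = 0) {v : V} (h : v ∈ TT R) : ee R v = v := by
  rw [mem_TT] at h
  rw [ee_apply, tri3_of_fix R c2 h.2, tri3_of_fix R c2 h.1]

theorem ee_h1 (v : V) : ee R (R gh1 v) = ee R v := by
  have : tri3 R gh1 (R gh1 v) = tri3 R gh1 v := by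
    rw [← tri3_comm R (rfl : gh1 * gh1 = gh1 * gh1), tri3_fix R h1h1h1]
  rw [ee_apply', this, ← ee_apply']

theorem ee_h2 (v : V) : ee R (R gh2 v) = ee R v := by
  have : tri3 R gh2 (R gh2 v) = tri3 R gh2 v := by
    rw [← tri3_comm R (rfl : gh2 * gh2 = gh2 * gh2), tri3_fix R h2h2h2]
  rw [ee_apply, this, ← ee_apply]

/-- expansion -/
theorem ee_expand (v : V) : ee R v = ∑ i : Fin 9, R (wd (Ei.getD i [])) v := by
  rw [Fin.sum_univ_castSucc, Fin.sum_univ_eight]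
  show _ = R (wd (Ei.getD 0 [])) v + R (wd (Ei.getD 1 [])) v + R (wd (Ei.getD 2 [])) v + R (wd (Ei.getD 3 [])) v +
    R (wd (Ei.getD 4 [])) v + R (wd (Ei.getD 5 [])) v + R (wd (Ei.getD 6 [])) v + R (wd (Ei.getD 7 [])) v +
    R (wd (Ei.getD 8 [])) v
  rw [E00, E01, E02, E10, E11, E12, E20, E21, E22, ee_apply, tri3_apply R gh2, tri3_apply]
  simp only [rmul, rone, map_add]
  abel

theorem cube12 : gh1 * gh2 * (gh1 * gh2) * (gh1 * gh2) = 1 := by
  have h1 := h1h1h1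
  have h2 := h2h2h2
  have h3 : gh1 * gh2 * (gh1 * gh2) * (gh1 * gh2) = (gh1 * gh1 * gh1) * (gh2 * gh2 * gh2) := by
    have c := h1h2
    have c' : Commute gh1 gh2 := c
    rw [← pow_three', ← pow_three', ← pow_three', c'.mul_pow]
  rw [h3, h1, h2, one_mul]

theorem cube112 : gh1 * gh1 * gh2 * (gh1 * gh1 * gh2) * (gh1 * gh1 * gh2) = 1 := by
  have c' : Commute gh1 gh2 := h1h2
  have h3 : (gh1 * gh1 * gh2) ^ 3 = (gh1 ^ 3) ^ 2 * gh2 ^ 3 := by
    rw [(c'.mul_left c').mul_pow, ← pow_two, ← pow_mul, ← pow_mul]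
  rw [← pow_three', h3, pow_three', pow_three', h1h1h1, h2h2h2, one_pow, one_mul]

theorem cc : Commute gh1 gh2 := h1h2
theorem comm12_1 : gh1 * gh2 * gh1 = gh1 * (gh1 * gh2) := ((Commute.refl gh1).mul_left cc.symm)
theorem comm12_2 : gh1 * gh2 * gh2 = gh2 * (gh1 * gh2) := (cc.mul_left (Commute.refl gh2))
theorem comm112_1 : gh1 * gh1 * gh2 * gh1 = gh1 * (gh1 * gh1 * gh2) :=
  (((Commute.refl gh1).mul_left (Commute.refl gh1)).mul_left cc.symm)
theorem comm112_2 : gh1 * gh1 * gh2 * gh2 = gh2 * (gh1 * gh1 * gh2) := ((cc.mul_left cc).mul_left (Commute.refl gh2))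
theorem comm_12_112 : gh1 * gh2 * (gh1 * gh1 * gh2) = gh1 * gh1 * gh2 * (gh1 * gh2) :=
  Commute.mul_right (Commute.mul_right comm12_1 comm12_1) comm12_2

/-- the identity is the sum of the five projections -/
theorem one_eq (c2 : (2 : F) = 0) (v : V) :
    v = ee R v + (tri3 R gh1 v + tri3 R gh2 v + tri3 R (gh1 * gh2) v + tri3 R (gh1 * gh1 * gh2) v) := by
  have c : ∀ x, R gh1 (R gh2 x) = R gh2 (R gh1 x) := rel R h1h2
  rw [ee_apply, tri3_apply R gh2, tri3_apply, tri3_apply, tri3_apply, tri3_apply]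
  simp only [rmul, map_add]
  have e1 : R gh1 (R gh2 (R gh1 (R gh2 v))) = R gh1 (R gh1 (R gh2 (R gh2 v))) := by rw [← c (R gh2 v)]
  have e2 : R gh1 (R gh1 (R gh2 (R gh1 (R gh1 (R gh2 v))))) = R gh1 (R gh2 (R gh2 v)) := by
    rw [← c, ← c, cube R h1h1h1]
  rw [e1, e2]
  set a := R gh1 v
  set b := R gh2 v
  have hd : ∀ x : V, x + x = 0 := dbl c2
  have : v + R gh2 v + R gh2 (R gh2 v) + (R gh1 v + R gh1 (R gh2 v) + R gh1 (R gh2 (R gh2 v))) +
      (R gh1 (R gh1 v) + R gh1 (R gh1 (R gh2 v)) + R gh1 (R gh1 (R gh2 (R gh2 v)))) +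
      (v + R gh1 v + R gh1 (R gh1 v) + (v + R gh2 v + R gh2 (R gh2 v)) +
        (v + R gh1 (R gh2 v) + R gh1 (R gh1 (R gh2 (R gh2 v)))) +
        (v + R gh1 (R gh1 (R gh2 v)) + R gh1 (R gh2 (R gh2 v)))) =
      v + (v + v) + (v + v) + (R gh1 v + R gh1 v) + (R gh2 v + R gh2 v) + (R gh1 (R gh1 v) + R gh1 (R gh1 v)) +
      (R gh2 (R gh2 v) + R gh2 (R gh2 v)) + (R gh1 (R gh2 v) + R gh1 (R gh2 v)) +
      (R gh1 (R gh2 (R gh2 v)) + R gh1 (R gh2 (R gh2 v))) + (R gh1 (R gh1 (R gh2 v)) + R gh1 (R gh1 (R gh2 v))) +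
      (R gh1 (R gh1 (R gh2 (R gh2 v))) + R gh1 (R gh1 (R gh2 (R gh2 v)))) := by abel
  rw [this]
  simp only [hd, add_zero]

end

section fin

variable (R : Spor.M12 →* Module.End F V)

/-- **The dimension of a submodule without `E`-fixed vectors.** -/
theorem lemQ (c2 : (2 : F) = 0) (D : Submodule F V) (he : ∀ x ∈ D, ee R x = 0) (s1 : ∀ x ∈ D, R gh1 x ∈ D)
    (s2 : ∀ x ∈ D, R gh2 x ∈ D) (q2 : ∀ x ∈ D, R gi2 x ∈ D) (q3 : ∀ x ∈ D, R gi3 x ∈ D) :
    finrank F D = 4 * finrank F (D ⊓ es (R gh1) 1 : Submodule F V) ∧ (D ≠ ⊥ → 8 ≤ finrank F D) := by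
  have c : ∀ x, R gh1 (R gh2 x) = R gh2 (R gh1 x) := rel R h1h2
  have s12 : ∀ x ∈ D, R (gh1 * gh2) x ∈ D := fun x hx => by rw [rmul]; exact s1 _ (s2 _ hx)
  have s112 : ∀ x ∈ D, R (gh1 * gh1 * gh2) x ∈ D := fun x hx => by rw [rmul, rmul]; exact s1 _ (s1 _ (s2 _ hx))
  have tst : ∀ g, (∀ x ∈ D, R g x ∈ D) → ∀ x ∈ D, tri3 R g x ∈ D := by
    intro g hg x hx
    rw [tri3_apply]
    exact D.add_mem (D.add_mem hx (hg _ hx)) (hg _ (hg _ hx))
  -- `tri3 g2` on the fixed space of `g1`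
  have k12 : ∀ x, R (gh1 * gh2) x = x → tri3 R gh2 x = tri3 R gh1 x := by
    intro x hx
    rw [rmul] at hx
    have h3 : R gh2 x = R gh1 (R gh1 x) := by
      have := congrArg (fun y => R gh1 (R gh1 y)) hx
      rw [cube R h1h1h1] at this
      exact this
    have h4 : R gh2 (R gh2 x) = R gh1 x := by
      rw [h3, ← c, ← c, h3, cube R h1h1h1]
    rw [tri3_apply, tri3_apply, h4, h3]; abel
  have k112 : ∀ x, R (gh1 * gh1 * gh2) x = x → tri3 R gh2 x = tri3 R gh1 x ∧ tri3 R (gh1 * gh2) x = tri3 R gh1 x := by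
    intro x hx
    rw [rmul, rmul] at hx
    have h3 : R gh2 x = R gh1 x := by
      have := congrArg (fun y => R gh1 y) hx
      rw [cube R h1h1h1] at this
      exact this
    have h4 : R gh2 (R gh2 x) = R gh1 (R gh1 x) := by
      rw [h3, ← c, h3]
    refine ⟨by rw [tri3_apply, tri3_apply, h4, h3], ?_⟩
    rw [tri3_apply, tri3_apply, rmul, rmul, h3, ← c, ← c, h3, cube R h1h1h1]
    abel
  -- the vanishing on fixed spaces
  have z1 : ∀ x ∈ D, R gh2 x = x → tri3 R gh1 x = 0 := by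
    intro x hx h3
    have := he x hx
    rwa [ee_apply, tri3_of_fix R c2 h3] at this
  have z1' : ∀ x ∈ D, R gh1 x = x → tri3 R gh2 x = 0 := by
    intro x hx h3
    have := he x hx
    rwa [ee_apply', tri3_of_fix R c2 h3] at this
  have z2 : ∀ x ∈ D, tri3 R gh2 x = tri3 R gh1 x → tri3 R gh1 x = 0 := by
    intro x hx h3
    have := he x hx
    rwa [ee_apply, h3, tri3_idem R c2 h1h1h1] at this
  -- splitting
  have a1 := split_idem D (tri3 R gh1) (tri3_idem R c2 h1h1h1) (tst _ s1)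
  have a2 := split_idem (D ⊓ LinearMap.ker (tri3 R gh1)) (tri3 R gh2) (tri3_idem R c2 h2h2h2) (by
    rintro x ⟨hx, hx'⟩
    refine ⟨tst _ s2 x hx, ?_⟩
    rw [SetLike.mem_coe, LinearMap.mem_ker] at hx' ⊢
    rw [tri3_comm' R h1h2, hx', map_zero])
  have a3 := split_idem (D ⊓ LinearMap.ker (tri3 R gh1) ⊓ LinearMap.ker (tri3 R gh2)) (tri3 R (gh1 * gh2))
    (tri3_idem R c2 cube12) (by
    rintro x ⟨⟨hx, hx'⟩, hx''⟩
    rw [SetLike.mem_coe, LinearMap.mem_ker] at hx' hx''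
    refine ⟨⟨tst _ s12 x hx, ?_⟩, ?_⟩
    · rw [SetLike.mem_coe, LinearMap.mem_ker, tri3_comm' R (comm12_1.symm), hx', map_zero]
    · rw [SetLike.mem_coe, LinearMap.mem_ker, tri3_comm' R (comm12_2.symm), hx'', map_zero])
  have a4 := split_idem (D ⊓ LinearMap.ker (tri3 R gh1) ⊓ LinearMap.ker (tri3 R gh2) ⊓ LinearMap.ker (tri3 R (gh1 * gh2)))
    (tri3 R (gh1 * gh1 * gh2)) (tri3_idem R c2 cube112) (by
    rintro x ⟨⟨⟨hx, hx'⟩, hx''⟩, hx3⟩
    rw [SetLike.mem_coe, LinearMap.mem_ker] at hx' hx'' hx3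
    refine ⟨⟨⟨tst _ s112 x hx, ?_⟩, ?_⟩, ?_⟩
    · rw [SetLike.mem_coe, LinearMap.mem_ker, tri3_comm' R (comm112_1.symm), hx', map_zero]
    · rw [SetLike.mem_coe, LinearMap.mem_ker, tri3_comm' R (comm112_2.symm), hx'', map_zero]
    · rw [SetLike.mem_coe, LinearMap.mem_ker, tri3_comm' R comm_12_112, hx3, map_zero])
  rw [ker_sub_one R c2 h1h1h1] at a1
  rw [ker_sub_one R c2 h2h2h2] at a2
  rw [ker_sub_one R c2 cube12] at a3
  rw [ker_sub_one R c2 cube112] at a4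
  have b2 : D ⊓ LinearMap.ker (tri3 R gh1) ⊓ es (R gh2) 1 = D ⊓ es (R gh2) 1 := by
    apply le_antisymm
    · rintro x ⟨⟨hx, _⟩, h3⟩; exact ⟨hx, h3⟩
    · rintro x ⟨hx, h3⟩
      exact ⟨⟨hx, z1 x hx (mem_es_one.1 h3)⟩, h3⟩
  have b3 : D ⊓ LinearMap.ker (tri3 R gh1) ⊓ LinearMap.ker (tri3 R gh2) ⊓ es (R (gh1 * gh2)) 1 = D ⊓ es (R (gh1 * gh2)) 1 := by
    apply le_antisymm
    · rintro x ⟨⟨⟨hx, _⟩, _⟩, h3⟩; exact ⟨hx, h3⟩
    · rintro x ⟨hx, h3⟩
      have h4 := k12 x (mem_es_one.1 h3)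
      have h5 := z2 x hx h4
      exact ⟨⟨⟨hx, h5⟩, h4.trans h5⟩, h3⟩
  have b4 : D ⊓ LinearMap.ker (tri3 R gh1) ⊓ LinearMap.ker (tri3 R gh2) ⊓ LinearMap.ker (tri3 R (gh1 * gh2)) ⊓
      es (R (gh1 * gh1 * gh2)) 1 = D ⊓ es (R (gh1 * gh1 * gh2)) 1 := by
    apply le_antisymm
    · rintro x ⟨⟨⟨⟨hx, _⟩, _⟩, _⟩, h3⟩; exact ⟨hx, h3⟩
    · rintro x ⟨hx, h3⟩
      have h4 := k112 x (mem_es_one.1 h3)
      have h5 := z2 x hx h4.1
      exact ⟨⟨⟨⟨hx, h5⟩, h4.1.trans h5⟩, h4.2.trans h5⟩, h3⟩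
  have b5 : D ⊓ LinearMap.ker (tri3 R gh1) ⊓ LinearMap.ker (tri3 R gh2) ⊓ LinearMap.ker (tri3 R (gh1 * gh2)) ⊓
      LinearMap.ker (tri3 R (gh1 * gh1 * gh2)) = ⊥ := by
    rw [eq_bot_iff]
    rintro x ⟨⟨⟨⟨hx, h3⟩, h4⟩, h5⟩, h6⟩
    rw [SetLike.mem_coe, LinearMap.mem_ker] at h3 h4 h5 h6
    rw [Submodule.mem_bot, one_eq R c2 x, he x hx, h3, h4, h5, h6]
    simp
  rw [b2] at a2
  rw [b3] at a3
  rw [b4, b5, finrank_bot] at a4
  -- conjugation
  have cj : ∀ (q g g' : Spor.M12), (∀ x ∈ D, R q x ∈ D) → q * g = g' * q →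
      finrank F (D ⊓ es (R g) 1 : Submodule F V) ≤ finrank F (D ⊓ es (R g') 1 : Submodule F V) := by
    intro q g g' hq e
    refine le_of_inj (R q) ?_ (fun v _ hv => rzero R q hv)
    rintro x ⟨hx, hx'⟩
    refine ⟨hq x hx, ?_⟩
    rw [SetLike.mem_coe, mem_es_one] at hx' ⊢
    rw [← rel R e, hx']
  have d1 := cj gi2 gh1 gh2 q2 i2h1
  have d2 := cj gi3 gh2 (gh1 * gh2) q3 i3h2
  have d3 := cj gi3 gh1 (gh1 * gh1 * gh2) q3 i3h1
  have q33 : ∀ x ∈ D, R (gi3 * gi3 * gi3) x ∈ D := fun x hx => by rw [rmul, rmul]; exact q3 _ (q3 _ (q3 _ hx))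
  have q22 : ∀ x ∈ D, R (gi2 * gi2 * gi2) x ∈ D := fun x hx => by rw [rmul, rmul]; exact q2 _ (q2 _ (q2 _ hx))
  have j3 : gi3 * gi3 * gi3 * gi3 = 1 := by rw [mul_assoc, i3i3, tt]
  have j2 : gi2 * gi2 * gi2 * gi2 = 1 := by rw [mul_assoc, i2i2, tt]
  have inv_rel : ∀ {q q' g g' : Spor.M12}, q' * q = 1 → q * q' = 1 → q * g = g' * q → q' * g' = g * q' := by
    intro q q' g g' e1 e2 e3
    calc q' * g' = q' * g' * (q * q') := by rw [e2, mul_one]
      _ = q' * (g' * q) * q' := by simp only [mul_assoc]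
      _ = q' * (q * g) * q' := by rw [e3]
      _ = (q' * q) * g * q' := by simp only [mul_assoc]
      _ = g * q' := by rw [e1, one_mul]
  have j3' : gi3 * (gi3 * gi3 * gi3) = 1 := by simp only [← mul_assoc]; exact j3
  have j2' : gi2 * (gi2 * gi2 * gi2) = 1 := by simp only [← mul_assoc]; exact j2
  have d1' := cj (gi2 * gi2 * gi2) gh2 gh1 q22 (inv_rel j2 j2' i2h1)
  have d2' := cj (gi3 * gi3 * gi3) (gh1 * gh2) gh2 q33 (inv_rel j3 j3' i3h2)
  have d3' := cj (gi3 * gi3 * gi3) (gh1 * gh1 * gh2) gh1 q33 (inv_rel j3 j3' i3h1)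
  have tot : finrank F D = 4 * finrank F (D ⊓ es (R gh1) 1 : Submodule F V) := by omega
  refine ⟨tot, fun hD => ?_⟩
  have hpos : finrank F D ≠ 0 := fun h0 => hD (Submodule.finrank_eq_zero.1 h0)
  by_contra hlt
  have h1 : finrank F (D ⊓ es (R gh1) 1 : Submodule F V) = 1 := by omega
  obtain ⟨⟨w, hw⟩, hw0⟩ := (finrank_pos_iff_exists_ne_zero (R := F) (M := (D ⊓ es (R gh1) 1 : Submodule F V))).1
    (by rw [h1]; norm_num)
  have hw0' : w ≠ 0 := fun h => hw0 (Subtype.ext h)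
  obtain ⟨hwD, hw1⟩ := hw
  rw [SetLike.mem_coe, mem_es_one] at hw1
  obtain ⟨a, ha⟩ := exists_scalar h1 (w := w) ⟨hwD, mem_es_one.2 hw1⟩ hw0' (x := R gh2 w)
    ⟨s2 _ hwD, mem_es_one.2 (by rw [c, hw1])⟩
  obtain ⟨b, hb⟩ := exists_scalar h1 (w := w) ⟨hwD, mem_es_one.2 hw1⟩ hw0' (x := R gt w)
    ⟨by rw [← i2i2, rmul]; exact q2 _ (q2 _ hwD), mem_es_one.2 (by
      -- `h1 t = t h1 h1`
      have h5 : gh1 * gt = gt * gh1 * gh1 := by
        rw [th1, mul_assoc (gh1 * gh1) gt gh1, th1, ← mul_assoc, ← mul_assoc, h1h1h1, one_mul]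
      rw [rel3 R h5, hw1, hw1])⟩
  have hb0 : b ≠ 0 := by
    rintro rfl
    rw [zero_smul] at hb
    exact hw0' (rzero R _ hb)
  have e1 : 1 + a + a * a = 0 := by
    have h5 := z1' w hwD hw1
    rw [tri3_apply, ha, map_smul, ha, smul_smul] at h5
    have h6 : (1 + a + a * a) • w = 0 := by rw [add_smul, add_smul, one_smul, h5]
    exact (smul_eq_zero.1 h6).resolve_right hw0'
  have e2 : b * a = b * (a * a) := by
    have h5 := rel3 R th2 w
    rw [ha, map_smul, hb, map_smul, map_smul, ha, map_smul, ha, smul_smul, smul_smul, smul_smul] at h5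
    have h6 : (a * b - b * (a * a)) • w = 0 := by rw [sub_smul, h5, mul_assoc, sub_self]
    have h7 := (smul_eq_zero.1 h6).resolve_right hw0'
    rw [mul_comm b a]
    exact sub_eq_zero.1 h7
  have e3 : a = a * a := mul_left_cancel₀ hb0 e2
  have e4 : (1 : F) = 0 := by linear_combination e1 + e3 - a * c2
  exact one_ne_zero e4

theorem not_one (hirr : Irr R) (hd : finrank F V = 10) {g : Spor.M12} (hg : g ≠ 1) : R g ≠ 1 := by
  intro h0
  have hs := Cfsg.Agent.Schreier.MTwelve.isSimpleGroup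
  apply not_triv R hirr hd
  let N : Subgroup Spor.M12 :=
    { carrier := {g | R g = 1}
      one_mem' := map_one R
      mul_mem' := fun {a b} ha hb => by
        change R (a * b) = 1
        rw [map_mul, show R a = 1 from ha, show R b = 1 from hb, one_mul]
      inv_mem' := fun {a} ha => by
        change R a⁻¹ = 1
        have h1 : R a⁻¹ * R a = 1 := by rw [← map_mul, inv_mul_cancel, map_one]
        rwa [show R a = 1 from ha, mul_one] at h1 }
  have hN : N.Normal := ⟨fun a ha g => by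
    change R (g * a * g⁻¹) = 1
    rw [map_mul, map_mul, show R a = 1 from ha, mul_one, ← map_mul, mul_inv_cancel, map_one]⟩
  rcases hs.eq_bot_or_eq_top_of_normal N hN with h1 | h1
  · exfalso
    have h2 : g ∈ N := h0
    rw [h1, Subgroup.mem_bot] at h2
    exact hg h2
  · have : gt ∈ N := by rw [h1]; trivial
    exact this

end fin

end Cfsg.Agent.H36.M12
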