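import Cfsg.Agent.H36.M12.Coc

/-!
# More elements of `M₁₂`, for characteristic two (helper36)

`gh1, gh2` generate the Sylow 3-subgroup `E` of the stabiliser of the points `9, 16, 12`; `grho` permutes `9, 16, 12`
cyclically; `gs1` exchanges `9, 16`.
-/

set_option autoImplicit false
set_option maxRecDepth 100000

namespace Cfsg.Agent.H36.M12

open Module Cfsg Cfsg.Agent.CoThreeStd.MTwelve Cfsg.Agent.SporadicStructure.M11InvPerms

/-- word -/
def wh1 : List ℕ := [0,5,0,5,4,2,3,1,5,0]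
/-- word -/
def wh2 : List ℕ := [3,1,5,3,4,1,2,3,1,0]
/-- word -/
def wrho : List ℕ := [4,5,4,5,3,2,5,3,1]
/-- word -/
def ws1 : List ℕ := [5,4,1,2,1,0,5,3,0]

/-- `h₁` of order 3 -/
def gh1 : Spor.M12 := wd wh1
/-- `h₂` of order 3 -/
def gh2 : Spor.M12 := wd wh2
/-- `ρ` of order 3 -/
def grho : Spor.M12 := wd wrho
/-- the involution `s₁` -/
def gs1 : Spor.M12 := wd ws1

theorem h1h1h1 : gh1 * gh1 * gh1 = 1 := by
  show wd wh1 * wd wh1 * wd wh1 = wd []
  simp only [← wd_append]; exact wd_eq (by decide +kernel)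
theorem h2h2h2 : gh2 * gh2 * gh2 = 1 := by
  show wd wh2 * wd wh2 * wd wh2 = wd []
  simp only [← wd_append]; exact wd_eq (by decide +kernel)
theorem h1h2 : gh1 * gh2 = gh2 * gh1 := w2 (by decide +kernel)
theorem i2h1 : gi2 * gh1 = gh2 * gi2 := w2 (by decide +kernel)
theorem i2h2 : gi2 * gh2 = gh1 * gh1 * gi2 := w23 (by decide +kernel)
theorem i3h1 : gi3 * gh1 = gh1 * gh1 * gh2 * gi3 := by
  show wd _ * wd _ = wd wh1 * wd wh1 * wd wh2 * wd wi3
  simp only [← wd_append]; exact wd_eq (by decide +kernel)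
theorem i3h2 : gi3 * gh2 = gh1 * gh2 * gi3 := w23 (by decide +kernel)
theorem th1 : gt * gh1 = gh1 * gh1 * gt := w23 (by decide +kernel)
theorem th2 : gt * gh2 = gh2 * gh2 * gt := w23 (by decide +kernel)
theorem rhoh1 : grho * gh1 = gh1 * grho := w2 (by decide +kernel)
theorem rhoh2 : grho * gh2 = gh1 * gh2 * grho := w23 (by decide +kernel)
theorem s1h1 : gs1 * gh1 = gh1 * gs1 := w2 (by decide +kernel)
theorem s1h2 : gs1 * gh2 = gh2 * gh2 * gh1 * gh1 * gs1 := by
  show wd _ * wd _ = wd wh2 * wd wh2 * wd wh1 * wd wh1 * wd ws1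
  simp only [← wd_append]; exact wd_eq (by decide +kernel)
theorem i2i3i2 : gi2 * (gi3 * gi2) = gi3 := by
  show wd wi2 * (wd wi3 * wd wi2) = wd wi3
  simp only [← wd_append]; exact wd_eq (by decide +kernel)
theorem rhoi2 : grho * gi2 = gi3 * gi2 * grho := w23 (by decide +kernel)
theorem rhoi3i2 : grho * (gi3 * gi2) = gi3 * grho := by
  show wd wrho * (wd wi3 * wd wi2) = wd wi3 * wd wrho
  simp only [← wd_append]; exact wd_eq (by decide +kernel)
theorem s1i2 : gs1 * gi2 = gt * (gi3 * gi2) * gs1 := by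
  show wd ws1 * wd wi2 = wd wt * (wd wi3 * wd wi2) * wd ws1
  simp only [← wd_append]; exact wd_eq (by decide +kernel)
theorem s1i3i2 : gs1 * (gi3 * gi2) = gt * gi2 * gs1 := by
  show wd ws1 * (wd wi3 * wd wi2) = wd wt * wd wi2 * wd ws1
  simp only [← wd_append]; exact wd_eq (by decide +kernel)
theorem s1s1 : gs1 * gs1 = 1 := w21 (c := []) (by decide +kernel)
theorem rhorhorho : grho * grho * grho = 1 := by
  show wd wrho * wd wrho * wd wrho = wd []
  simp only [← wd_append]; exact wd_eq (by decide +kernel)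
theorem s1rho : gs1 * grho = grho * grho * gs1 := w23 (by decide +kernel)

theorem h1_ne : gh1 ≠ 1 := wd_ne (l' := []) 0 (by norm_num) (by decide +kernel)

/-- letters of the stabiliser of two points -/
def kw : ℕ → List ℕ
  | 0 => wh1
  | 1 => wh2
  | 2 => wi2
  | 3 => wi3
  | _ => ws

/-- letters of `M₁₂` -/
def mw : ℕ → List ℕ
  | 0 => wi2
  | 1 => wi3
  | 2 => ws
  | 3 => wr
  | _ => wrho

theorem r_word : gr = wd (([0,4,0,0,3] : List ℕ).flatMap kw) := wd_eq (by decide +kernel)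
theorem X_word : wd wX = wd (([0,4,3,4,0,3,4,2] : List ℕ).flatMap mw) := wd_eq (by decide +kernel)
theorem Y_word : wd wY = wd (([0,2,3,4,2,0,3,4,2] : List ℕ).flatMap mw) := wd_eq (by decide +kernel)
theorem h1e2 : gh1 * ge2 = ge2 * wd (([0,4,0] : List ℕ).flatMap kw) := w2 (by decide +kernel)
theorem h2e2 : gh2 * ge2 = ge2 * wd (([4,1,0,4] : List ℕ).flatMap kw) := w2 (by decide +kernel)
theorem i2e2' : gi2 * ge2 = ge2 * wd (([2,2,2] : List ℕ).flatMap kw) := w2 (by decide +kernel)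
theorem i3e2' : gi3 * ge2 = ge2 * wd (([3] : List ℕ).flatMap kw) := w2 (by decide +kernel)
theorem se2' : gs * ge2 = ge2 * wd (([4] : List ℕ).flatMap kw) := w2 (by decide +kernel)
theorem re2' : gr * ge2 = ge2 * wd (([0,0,4,0,3] : List ℕ).flatMap kw) := w2 (by decide +kernel)
theorem s1_word : gs1 = ge2 * wd (([2,2,4] : List ℕ).flatMap kw) := by
  show wd ws1 = wd we2 * wd _
  rw [← wd_append]; exact wd_eq (by decide +kernel)

/-- the elements of `E` -/
def Ei : List (List ℕ) := [[], [3,1,5,3,4,1,2,3,1,0], [3,4,1,2,3,1,0,5,3,1], [0,5,0,5,4,2,3,1,5,0],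
  [5,0,5,4,2,5,3,1], [3,1,0,5,3,4,1,2,5,0], [0,5,3,4,1,2,5,0,5,0], [0,5,4,2,3,1,5,3,1,0], [5,4,2,5,3,1,0,5]]

/-- representatives of the cosets of the stabiliser of `9, 16, 12` -/
def Rp : List (List ℕ) := [] :: Ei.map (· ++ ws)

theorem E00 : wd (Ei.getD 0 []) = 1 := rfl
theorem E01 : wd (Ei.getD 1 []) = gh2 := rfl
theorem E02 : wd (Ei.getD 2 []) = gh2 * gh2 := (w21 (by decide +kernel)).symm
theorem E10 : wd (Ei.getD 3 []) = gh1 := rfl
theorem E11 : wd (Ei.getD 4 []) = gh1 * gh2 := (w21 (by decide +kernel)).symm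
theorem E12 : wd (Ei.getD 5 []) = gh1 * (gh2 * gh2) := by
  show wd _ = wd wh1 * (wd wh2 * wd wh2)
  simp only [← wd_append]; exact wd_eq (by decide +kernel)
theorem E20 : wd (Ei.getD 6 []) = gh1 * gh1 := (w21 (by decide +kernel)).symm
theorem E21 : wd (Ei.getD 7 []) = gh1 * gh1 * gh2 := by
  show wd _ = wd wh1 * wd wh1 * wd wh2
  simp only [← wd_append]; exact wd_eq (by decide +kernel)
theorem E22 : wd (Ei.getD 8 []) = gh1 * gh1 * (gh2 * gh2) := by
  show wd _ = wd wh1 * wd wh1 * (wd wh2 * wd wh2)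
  simp only [← wd_append]; exact wd_eq (by decide +kernel)

/-- the action of the letters on the representatives -/
def tK : List (List (ℕ × List ℕ)) := [
  [(0, [0]), (4, []), (5, []), (6, []), (7, []), (8, []), (9, []), (1, []), (2, []), (3, [])],
  [(0, [1]), (2, []), (3, []), (1, []), (5, []), (6, []), (4, []), (8, []), (9, []), (7, [])],
  [(0, [2]), (1, [3, 2]), (7, [3, 2]), (4, [3, 2]), (2, [3, 2]), (8, [3, 2]), (5, [3, 2]), (3, [3, 2]),
    (9, [3, 2]), (6, [3, 2])],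
  [(0, [3]), (1, [3, 2, 2]), (5, [3, 2, 2]), (9, [3, 2, 2]), (8, [3, 2, 2]), (3, [3, 2, 2]), (4, [3, 2, 2]),
    (6, [3, 2, 2]), (7, [3, 2, 2]), (2, [3, 2, 2])],
  [(1, []), (0, []), (9, [2, 2, 1, 3]), (5, [1, 3, 2, 2]), (7, [0, 0]), (3, [3, 1, 1]), (6, [3, 0, 3]), (4, [0]),
    (8, [0, 2, 2, 1]), (2, [3, 1])]]

/-- entry -/
def tKe (k i : ℕ) : ℕ × List ℕ := (tK.getD k []).getD i (0, [])

theorem chk_K : ∀ (k : Fin 5) (i : Fin 10), (tKe k i).1 < 10 ∧ ((tKe k i).2.all fun m => decide (m < 4)) = true ∧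
    eqW (kw k ++ Rp.getD i []) (Rp.getD (tKe k i).1 [] ++ (tKe k i).2.flatMap kw) = true := by decide +kernel

theorem chk_s : ∀ i : Fin 10, i ≠ 1 → (tKe 4 i).1 ≠ 0 := by decide +kernel

end Cfsg.Agent.H36.M12
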